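import Cfsg.Agent.TO.D4A.Loc

/-!
# S4817, `PΩ₈⁺(q)`: the prime `5` (helper37)
-/

set_option autoImplicit false
set_option linter.unusedSectionVars false

namespace Cfsg.Agent.TO.D4A

open Module QuadraticMap Cfsg.Agent.BHZ.Nil Cfsg.Agent.LieClassical.OrthCore Subgroup

theorem mem_range_of_pow {F : Type} [Field F] [Fintype F] {K : Type} [Field K] [Algebra F K] {x : K}
    (hx : x ^ Fintype.card F = x) : ∃ a : F, algebraMap F K a = x := by
  classical
  have hq := Fintype.one_lt_card (α := F)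
  have hne : (Polynomial.X ^ Fintype.card F - Polynomial.X : Polynomial K) ≠ 0 := FiniteField.X_pow_card_sub_X_ne_zero K hq
  have hm : ∀ y : K, y ∈ (Polynomial.X ^ Fintype.card F - Polynomial.X : Polynomial K).roots.toFinset ↔
      y ^ Fintype.card F = y := fun y => by
    rw [Multiset.mem_toFinset, Polynomial.mem_roots hne, Polynomial.IsRoot.def]
    simp only [Polynomial.eval_sub, Polynomial.eval_pow, Polynomial.eval_X, sub_eq_zero]
  have he : (Finset.univ.image fun a : F => algebraMap F K a) =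
      (Polynomial.X ^ Fintype.card F - Polynomial.X : Polynomial K).roots.toFinset := by
    refine Finset.eq_of_subset_of_card_le (fun y hy => ?_) ?_
    · obtain ⟨a, -, rfl⟩ := Finset.mem_image.1 hy
      rw [hm, ← map_pow, FiniteField.pow_card]
    · rw [Finset.card_image_of_injective _ (algebraMap F K).injective, Finset.card_univ]
      refine (Multiset.toFinset_card_le _).trans ((Polynomial.card_roots' _).trans ?_)
      rw [FiniteField.X_pow_card_sub_X_natDegree_eq K hq]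
  obtain ⟨a, -, ha⟩ := Finset.mem_image.1 (he ▸ (hm x).2 hx)
  exact ⟨a, ha⟩

theorem exists_root {F : Type} [Field F] [Fintype F] (h : Fintype.card F % 5 = 1 ∨ Fintype.card F % 5 = 4) :
    ∃ a : F, a * a + a - 1 = 0 := by
  obtain ⟨z, hz⟩ := IsAlgClosed.exists_root (Polynomial.cyclotomic 5 (AlgebraicClosure F))
    (Polynomial.degree_cyclotomic_pos 5 _ (by norm_num)).ne'
  have : Fact (Nat.Prime 5) := ⟨Nat.prime_five⟩
  rw [Polynomial.IsRoot.def, Polynomial.cyclotomic_prime] at hz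
  simp only [Finset.sum_range_succ, Finset.range_zero, Finset.sum_empty, Polynomial.eval_add, Polynomial.eval_pow,
    Polynomial.eval_X, Polynomial.eval_zero] at hz
  have h5 : z ^ 5 = 1 := by linear_combination (z - 1) * hz
  obtain ⟨r, hr⟩ := CharP.exists F
  obtain ⟨n, hp, hn⟩ := FiniteField.card F r
  have : Fact r.Prime := ⟨hp⟩
  have h1 : (z + z ^ 4) ^ Fintype.card F = z + z ^ 4 := by
    have e : (z + z ^ 4) ^ Fintype.card F = z ^ Fintype.card F + (z ^ Fintype.card F) ^ 4 := by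
      rw [hn, add_pow_char_pow, ← pow_mul, ← pow_mul, mul_comm]
    rw [e, pow_eq_pow_mod _ h5]
    rcases h with h | h <;> rw [h]
    · rw [pow_one]
    · linear_combination (z ^ 11 + z ^ 6 + z) * h5
  obtain ⟨a, ha⟩ := mem_range_of_pow h1
  refine ⟨a, (algebraMap F (AlgebraicClosure F)).injective ?_⟩
  rw [map_sub, map_add, map_mul, ha, map_one, map_zero]
  linear_combination hz + (2 + z ^ 3) * h5

variable {F V : Type} [Field F] [AddCommGroup V] [Module F V] [FiniteDimensional F V] {Q : QuadraticForm F V}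
  [Fact (Nat.Prime 5)] {Y : Type} [Group Y] {ρ : Y →* End F V} {D : Subgroup Y} {η : End F V} {u u' w : Y} {a t t' : F}

theorem rk_four [Fintype F] (hq : Fintype.card F % 5 = 2 ∨ Fintype.card F % 5 = 3) (hV : finrank F V = 8) {c : End F V}
    (hc : c ^ 5 = 1) (h2 : 2 ≤ rk (c - 1)) (h4 : rk (c - 1) ≤ 4) : rk (c - 1) = 4 := by
  classical
  have : Finite V := Module.finite_of_finite F
  have := Fintype.ofFinite V
  have h1 := Equiv.Perm.card_fixedPoints_modEq (α := V) (f := (c : V → V)) (p := 5) (n := 1) (by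
    funext v
    exact LinearMap.congr_fun hc v)
  have h3 : Fintype.card (Function.fixedPoints (c : V → V)) = Nat.card (LinearMap.ker (c - 1)) := by
    rw [← Nat.card_eq_fintype_card]
    exact Nat.card_congr (Equiv.subtypeEquivRight fun v => sub_eq_zero.symm)
  have h5 := LinearMap.finrank_range_add_finrank_ker (c - 1)
  rw [h3, ← Nat.card_eq_fintype_card, natCard_eq_pow_finrank (K := F) (V := V),
    natCard_eq_pow_finrank (K := F) (V := LinearMap.ker (c - 1)), hV,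
    Nat.card_eq_fintype_card, Nat.ModEq, Nat.pow_mod, Nat.pow_mod _ (finrank F _)] at h1
  unfold rk at *
  have h6 : finrank F (LinearMap.ker (c - 1)) = 4 ∨ finrank F (LinearMap.ker (c - 1)) = 5 ∨
    finrank F (LinearMap.ker (c - 1)) = 6 := by omega
  rcases h6 with h6 | h6 | h6
  · omega
  all_goals rcases hq with hq | hq <;> rw [h6, hq] at h1 <;> omega

/-- `u + u⁻¹` -/
def tr (ρ : Y →* End F V) (u : Y) : End F V := ρ u + ρ u⁻¹

theorem commute_tr (h : Commute w u) : Commute (ρ w) (tr ρ u) := (h.map ρ).add_right (h.inv_right.map ρ)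

theorem tr_mul (h : Commute u w) (hw : w ∈ Fx ρ η) : tr ρ (u * w) * η = tr ρ u * η := by
  rw [tr, tr, h.mul_inv, map_mul, map_mul, add_mul, add_mul, mul_assoc, mul_assoc, hw, inv_mem hw]

theorem tr_two (u : Y) : tr ρ (u * u) = tr ρ u * tr ρ u - (2 : F) • 1 := by
  simp only [tr, mul_add, add_mul, ← map_mul, mul_inv_rev, mul_inv_cancel, inv_mul_cancel, map_one, two_smul]
  abel

theorem tr_sq (hF : ((5 : ℕ) : F) ≠ 0) (hu : u ^ 5 = 1) :
    tr ρ u * tr ρ u * ep 5 (ρ u) = ep 5 (ρ u) - tr ρ u * ep 5 (ρ u) := by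
  have h1 : (∑ i ∈ Finset.range 5, ρ u ^ i) * ep 5 (ρ u) = 0 := by
    have : av F 5 (ρ u) * ep 5 (ρ u) = 0 := by rw [ep, mul_sub, mul_one, av_idem hF (rho_pow hu), sub_self]
    rwa [av, smul_mul_assoc, smul_eq_zero_iff_right (inv_ne_zero hF)] at this
  have h2 : u⁻¹ = u ^ 4 := inv_eq_of_mul_eq_one_right (by rw [← pow_succ', hu])
  have h3 : u⁻¹ * u⁻¹ = u ^ 3 := by rw [h2, ← pow_add, pow_eq_pow_mod _ hu]
  have h4 : ∑ i ∈ Finset.range 5, ρ u ^ i = tr ρ u * tr ρ u + tr ρ u - 1 := by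
    simp only [tr, mul_add, add_mul, ← map_mul, mul_inv_cancel, inv_mul_cancel, map_one, h3]
    simp only [h2, map_pow, map_mul, Finset.sum_range_succ, Finset.range_zero, Finset.sum_empty, pow_zero, pow_one, pow_two]
    abel
  rw [h4, sub_mul, add_mul, one_mul, sub_eq_zero] at h1
  exact eq_sub_of_add_eq h1

theorem eig {T : End F V} (h : T * η = a • η) : (T - t • 1) * (T - t' • 1) * η = ((a - t) * (a - t')) • η := by
  simp only [mul_assoc, sub_mul, mul_sub, smul_mul_assoc, mul_smul_comm, one_mul, h]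
  module

theorem sep (S : St 5 Q ρ) (hu : u ^ 5 = 1) (h : Commute u w) (h1 : u ∈ Fx ρ η) (h2 : w ∈ Fx ρ (ep 5 (ρ u)))
    (h3 : w ∈ Fx ρ (1 - η)) (h4 : tr ρ u * ep 5 (ρ u) = t • ep 5 (ρ u)) (h5 : tr ρ w * η = t' • η) (h6 : t ≠ t') (h7 : t ≠ 2)
    {y : Y} (hy : Commute y (u * w)) : Commute y u := by
  have a1 : u * w ∈ Fx ρ (1 - ep 5 (ρ u) - η) := by
    refine mul_mem ?_ ?_
    · show ρ u * _ = _
      rw [mul_sub, h1, ep, sub_sub_cancel, mul_av (rho_pow hu)]
    · show ρ w * _ = _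
      rw [sub_right_comm, mul_sub, h2, h3]
  have a2 : tr ρ (u * w) * (1 - ep 5 (ρ u) - η) = (2 : F) • (1 - ep 5 (ρ u) - η) := by
    rw [tr, add_mul, a1, inv_mem a1, two_smul]
  have a3 := eig (t := t') (t' := 2) ((tr_mul h h2).trans h4)
  have a4 := eig (t := t') (t' := 2) (show tr ρ (u * w) * η = _ by rw [h.eq, tr_mul h.symm h1, h5])
  have a5 := eig (t := t') (t' := 2) a2
  rw [sub_self, zero_mul, zero_smul] at a4
  rw [sub_self (2 : F), mul_zero, zero_smul, mul_sub, mul_sub, a3, a4, mul_one, sub_zero, sub_eq_zero] at a5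
  have a6 : Commute (ρ y) (ep 5 (ρ u)) := by
    have a7 : ∀ s : F, Commute (ρ y) (tr ρ (u * w) - s • 1) := fun s =>
      (commute_tr hy).sub_right ((Commute.one_right _).smul_right s)
    have := ((a7 t').mul_right (a7 2)).smul_right ((t - t') * (t - 2))⁻¹
    rwa [a5, inv_smul_smul₀ (mul_ne_zero (sub_ne_zero.2 h6) (sub_ne_zero.2 h7))] at this
  refine S.comm ?_
  rw [← cut_ep (rho_pow hu), show ρ u * ep 5 (ρ u) = ρ (u * w) * ep 5 (ρ u) by rw [map_mul, mul_assoc, h2]]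
  exact ((hy.map ρ).mul_right a6).add_right ((Commute.one_right _).sub_right a6)

variable (S : St 5 Q ρ) (L : Lc 5 D)
include S L

theorem ty (ha : a * a + a - 1 = 0) (hu : Mn ρ D u) :
    tr ρ u * ep 5 (ρ u) = a • ep 5 (ρ u) ∨ tr ρ u * ep 5 (ρ u) = (-1 - a) • ep 5 (ρ u) := by
  have h0 := rho_pow (ρ := ρ) (L.pw u hu.mem)
  have hd : 2 * a + 1 ≠ 0 := fun e => S.hF (by push_cast; linear_combination (2 * a + 1) * e - 4 * ha)
  have h1 := ep_idem S.hF h0
  have hc : Commute (tr ρ u) (ep 5 (ρ u)) := commute_ep (commute_tr (Commute.refl u)).symm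
  have h2 : tr ρ u * ep 5 (ρ u) * ep 5 (ρ u) = tr ρ u * ep 5 (ρ u) := by rw [mul_assoc, h1]
  have h3 : ep 5 (ρ u) * (tr ρ u * ep 5 (ρ u)) = tr ρ u * ep 5 (ρ u) := by rw [← mul_assoc, ← hc.eq, h2]
  have h4 : tr ρ u * ep 5 (ρ u) * (tr ρ u * ep 5 (ρ u)) = ep 5 (ρ u) - tr ρ u * ep 5 (ρ u) := by
    rw [mul_assoc, h3, ← mul_assoc, tr_sq S.hF (L.pw u hu.mem)]
  have h5 := (sa_add_inv (S.iso u) (c' := ρ u⁻¹) (by rw [← map_mul, mul_inv_cancel, map_one])).mul (sa_ep S.hF (S.iso u) h0) hc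
  have h6 : ∀ y, (∀ d ∈ D, Commute y d) → Commute (ρ y) (tr ρ u * ep 5 (ρ u)) := fun y hy =>
    (commute_tr (hy u hu.mem)).mul_right (commute_ep ((hy u hu.mem).map ρ))
  change Sa Q (tr ρ u * ep 5 (ρ u)) at h5
  generalize tr ρ u * ep 5 (ρ u) = N at *
  have h7 : (N - (-1 - a) • ep 5 (ρ u)) * (N - (-1 - a) • ep 5 (ρ u)) = (2 * a + 1) • (N - (-1 - a) • ep 5 (ρ u)) := by
    simp only [mul_sub, sub_mul, smul_mul_assoc, mul_smul_comm, h1, h2, h3, h4]
    match_scalars
    · linear_combination -ha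
    · ring
  rcases atom S L hu (η := (2 * a + 1)⁻¹ • (N - (-1 - a) • ep 5 (ρ u)))
    (by rw [smul_mul_assoc, mul_smul_comm, h7, inv_smul_smul₀ hd]) ((h5.sub ((sa_ep S.hF (S.iso u) h0).smul _)).smul _)
    (fun y hy => ((h6 y hy).sub_right ((commute_ep ((hy u hu.mem).map ρ)).smul_right _)).smul_right _)
    (by rw [mul_smul_comm, mul_sub, mul_smul_comm, h1, h3]) with h | h
  · exact .inr (sub_eq_zero.1 ((smul_eq_zero_iff_right (inv_ne_zero hd)).1 h))
  · rw [inv_smul_eq_iff₀ hd, sub_eq_iff_eq_add, ← add_smul] at h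
    exact .inl (h.trans (by congr 1; ring))

theorem five [Fintype F] [Finite Y] (hq : Fintype.card F % 5 = 1 ∨ Fintype.card F % 5 = 4)
    (hc : ∀ x ∈ D, ∀ x' ∈ D, x ≠ 1 → x' ≠ 1 → (∀ y, Commute y x → Commute y x') → ∀ y, Commute y x' → Commute y x)
    (hu : Mn ρ D u) (hu' : Mn ρ D u') (h : u' ∉ zpowers u) : False := by
  obtain ⟨a, ha⟩ := exists_root hq
  obtain ⟨t, ht, h1⟩ : ∃ t : F, t * t + t - 1 = 0 ∧ tr ρ u * ep 5 (ρ u) = t • ep 5 (ρ u) :=
    (ty S L ha hu).elim (fun e => ⟨_, ha, e⟩) fun e => ⟨_, by linear_combination ha, e⟩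
  have h5 := L.pw u' hu'.mem
  obtain ⟨w, w1, w2, w3⟩ : ∃ w ∈ zpowers u', u' ∈ zpowers w ∧ tr ρ w * ep 5 (ρ u') = (-1 - t) • ep 5 (ρ u') := by
    rcases ty S L ht hu' with e | e
    · refine ⟨u' * u', mul_mem (mem_zpowers _) (mem_zpowers _), ⟨(3 : ℕ), ?_⟩, ?_⟩
      · simp only [zpow_natCast]
        rw [← pow_two, ← pow_mul, pow_eq_pow_mod _ h5, pow_one]
      · rw [tr_two, sub_mul, tr_sq S.hF h5, e, smul_mul_assoc, one_mul]
        module
    · exact ⟨u', mem_zpowers _, mem_zpowers _, e⟩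
  have w4 : w ∈ D := zpowers_le.2 hu'.mem w1
  have w5 : u' ∈ Fx ρ (1 - ep 5 (ρ u')) := by
    show ρ u' * _ = _
    rw [ep, sub_sub_cancel, mul_av (rho_pow h5)]
  have h2 := hc (u * w) (mul_mem hu.mem w4) u hu.mem
    (fun e => h (zpowers_le.2 (by rw [eq_inv_of_mul_eq_one_right e]; exact inv_mem (mem_zpowers u)) w2)) hu.ne
    fun y hy => sep S (L.pw u hu.mem) (L.comm u hu.mem w w4) (fx_of S L hu hu' h).2 (zpowers_le.2 (fx_of S L hu hu' h).1 w1)
      (zpowers_le.2 w5 w1) h1 w3 (fun e => S.hF (by push_cast; linear_combination (2 * t + 1) * e - 4 * ht))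
      (fun e => S.hF (by push_cast; linear_combination ht - (t + 3) * e)) hy
  have h3 := Fintype.one_lt_card (α := F)
  obtain ⟨c, c1, c2, c3⟩ := nc (by omega) S.odd S.hF S.nd (S.iso u) (S.iso u') (rho_pow h5) (S.ne hu'.ne) (fx_of S L hu hu' h).2
    (by have := (rk_add S L hu hu' h).2; rw [S.dim]; omega)
  obtain ⟨y, hy⟩ := S.sq c c1
  rw [← hy] at c2 c3
  have h6 : Commute y w := by simpa using (S.comm c2).inv_right.mul_right (h2 y (S.comm c2))
  obtain ⟨k, hk⟩ := w2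
  exact c3 (Commute.map (hk ▸ h6.zpow_right k) ρ)

end Cfsg.Agent.TO.D4A
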