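import Cfsg.Agent.BHZ.Nil.LocBasic
import Cfsg.Agent.LieClassical.OrthCore

/-!
# S4817, `PΩ₈⁺(q)`: linear algebra (helper37)

Isometries of prime order, their supports `ep`, cuts, ranks; `na` (central commutators), `nc` (an element which commutes with
`u₁` but not with `u₂`).
-/

set_option autoImplicit false
set_option linter.unusedSectionVars false

namespace Cfsg.Agent.TO.D4A

open Module QuadraticMap Cfsg.Agent.BHZ.Nil Cfsg.Agent.LieClassical.OrthCore

variable {F V : Type} [Field F] [AddCommGroup V] [Module F V] {Q : QuadraticForm F V} {p : ℕ} [hp : Fact p.Prime]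
  {c c' η η' : End F V}

/-- an isometry -/
def Iso (Q : QuadraticForm F V) (c : End F V) : Prop := ∀ v, Q (c v) = Q v

/-- self-adjoint -/
def Sa (Q : QuadraticForm F V) (η : End F V) : Prop := ∀ x y, polar Q (η x) y = polar Q x (η y)

/-- the rank -/
noncomputable def rk (c : End F V) : ℕ := finrank F (LinearMap.range c)

/-- the projection onto the support -/
noncomputable def ep (p : ℕ) (c : End F V) : End F V := 1 - av F p c

theorem Iso.polar (h : Iso Q c) (x y : V) : polar Q (c x) (c y) = polar Q x y := by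
  rw [QuadraticMap.polar, QuadraticMap.polar, ← map_add, h, h, h]

theorem Iso.mul (h : Iso Q c) (h' : Iso Q c') : Iso Q (c * c') := fun v => (h _).trans (h' v)

theorem Iso.pow (h : Iso Q c) (n : ℕ) : Iso Q (c ^ n) := by
  induction n with
  | zero => exact fun _ => rfl
  | succ n ih => rw [pow_succ]; exact ih.mul h

theorem Sa.mul (h : Sa Q η) (h' : Sa Q η') (hc : Commute η η') : Sa Q (η * η') := fun x y => by
  rw [End.mul_apply, h, h', ← End.mul_apply, hc.eq]

theorem sa_one : Sa Q (1 : End F V) := fun _ _ => rfl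

theorem Sa.sub (h : Sa Q η) (h' : Sa Q η') : Sa Q (η - η') := fun x y => by
  rw [LinearMap.sub_apply, LinearMap.sub_apply, polar_sub_left, polar_sub_right, h, h']

theorem Sa.smul (h : Sa Q η) (a : F) : Sa Q (a • η) := fun x y => by
  rw [LinearMap.smul_apply, LinearMap.smul_apply, polar_smul_left, polar_smul_right, h]

theorem sa_add_inv (h : Iso Q c) (h1 : c * c' = 1) : Sa Q (c + c') := fun x y => by
  have e1 : polar Q (c x) y = polar Q x (c' y) := by rw [← h.polar x, ← End.mul_apply, h1, End.one_apply]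
  have e2 : polar Q (c' x) y = polar Q x (c y) := by rw [← h.polar (c' x), ← End.mul_apply, h1, End.one_apply]
  rw [LinearMap.add_apply, LinearMap.add_apply, polar_add_left, polar_add_right, e1, e2, add_comm]

theorem sa_av (hF : (p : F) ≠ 0) (h : Iso Q c) (hc : c ^ p = 1) : Sa Q (av F p c) := by
  have h1 : ∀ x y, polar Q (av F p c x) (av F p c y) = polar Q (av F p c x) y := fun x y => by
    have h2 : ∀ i : ℕ, polar Q (av F p c x) ((c ^ i) y) = polar Q (av F p c x) y := fun i => by
      induction i with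
      | zero => rfl
      | succ i ih => rw [← ih, ← h.polar _ ((c ^ i) y), ← End.mul_apply, mul_av hc, pow_succ', End.mul_apply]
    conv_lhs => rw [show av F p c y = (p : F)⁻¹ • ∑ i ∈ Finset.range p, (c ^ i) y by simp [av]]
    rw [polar_smul_right, ← polarBilin_apply_apply, map_sum]
    simp only [polarBilin_apply_apply, h2, Finset.sum_const, Finset.card_range, nsmul_eq_mul, smul_eq_mul]
    rw [inv_mul_cancel_left₀ hF]
  intro x y
  rw [← h1, polar_comm, h1, polar_comm]

theorem iso_cut (h : Iso Q c) (h1 : η * η = η) (h2 : Sa Q η) (h3 : Commute c η) : Iso Q (c * η + (1 - η)) := fun v => by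
  have h4 : ∀ x, polar Q (η x) (v - η v) = 0 := fun x => by
    rw [h2, map_sub, ← End.mul_apply, h1, sub_self, polar_zero_right]
  have e1 : (c * η + (1 - η)) v = η (c v) + (v - η v) := by rw [h3.eq]; rfl
  have e2 : Q (η (c v)) = Q (η v) := by rw [← End.mul_apply, ← h3.eq, End.mul_apply, h]
  rw [e1, Q_add, h4, e2]
  conv_rhs => rw [← add_sub_cancel (η v) v, Q_add, h4]

theorem cut_pow (h1 : η * η = η) (h3 : Commute c η) (n : ℕ) : (c * η + (1 - η)) ^ n = c ^ n * η + (1 - η) := by
  induction n with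
  | zero => simp
  | succ n ih => rw [pow_succ, ih, cut_mul h1 h3, pow_succ]

theorem commute_ep (h : Commute η c) : Commute η (ep p c) := (Commute.one_right _).sub_right (commute_av h)

theorem ep_mul_eq_zero (hF : (p : F) ≠ 0) (hc : c ^ p = 1) : ep p c * η = 0 ↔ c * η = η := by
  rw [ep, sub_mul, one_mul, sub_eq_zero]
  exact ⟨fun h => by rw [h, ← mul_assoc, mul_av hc], fun h => (av_mul_of_fix hF h).symm⟩

theorem ep_idem (hF : (p : F) ≠ 0) (hc : c ^ p = 1) : ep p c * ep p c = ep p c := by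
  rw [ep, sub_mul, one_mul, mul_sub, mul_one, av_idem hF hc, sub_self, sub_zero]

theorem ep_mul_sub (hc : c ^ p = 1) : ep p c * (c - 1) = c - 1 := by
  rw [ep, sub_mul, one_mul, mul_sub, mul_one, ← (commute_av (Commute.refl c)).eq, mul_av hc, sub_self, sub_zero]

theorem cut_ep (hc : c ^ p = 1) : c * ep p c + (1 - ep p c) = c := by
  have h := ep_mul_sub (p := p) hc
  rw [← (commute_ep ((Commute.refl c).sub_left (Commute.one_left c))).eq, sub_mul, one_mul] at h
  rw [← add_sub_assoc, add_comm, add_sub_assoc, h, add_sub_cancel]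

theorem ep_ne_zero (hF : (p : F) ≠ 0) (hc : c ^ p = 1) (h : c ≠ 1) : ep p c ≠ 0 := fun e =>
  h (by simpa using (ep_mul_eq_zero (η := 1) hF hc).1 (by rw [e, zero_mul]))

theorem sa_ep (hF : (p : F) ≠ 0) (h : Iso Q c) (hc : c ^ p = 1) : Sa Q (ep p c) := sa_one.sub (sa_av hF h hc)

theorem exists_ep (hF : (p : F) ≠ 0) (c : End F V) : ∃ d, ep p c = (c - 1) * d := by
  refine ⟨-((p : F)⁻¹ • ∑ i ∈ Finset.range p, ∑ j ∈ Finset.range i, c ^ j), ?_⟩
  rw [mul_neg, mul_smul_comm, Finset.mul_sum]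
  simp only [mul_geom_sum, Finset.sum_sub_distrib, Finset.sum_const, Finset.card_range, smul_sub, neg_sub]
  rw [← Nat.cast_smul_eq_nsmul F, smul_smul, inv_mul_cancel₀ hF, one_smul, ep, av]

theorem range_le (h : η * c = c) : LinearMap.range c ≤ LinearMap.range η := by
  rintro _ ⟨x, rfl⟩
  exact ⟨c x, by rw [← End.mul_apply, h]⟩

theorem mul_eq_of_range (h1 : η * η = η) (h : LinearMap.range c ≤ LinearMap.range η) : η * c = c := by
  ext x
  obtain ⟨y, hy⟩ := h ⟨x, rfl⟩
  rw [End.mul_apply, ← hy, ← End.mul_apply, h1]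

theorem range_ep (hF : (p : F) ≠ 0) (hc : c ^ p = 1) : LinearMap.range (ep p c) = LinearMap.range (c - 1) := by
  refine le_antisymm ?_ (range_le (ep_mul_sub hc))
  obtain ⟨d, hd⟩ := exists_ep hF c
  rw [hd]
  exact LinearMap.range_comp_le_range _ _

theorem rk_ep (hF : (p : F) ≠ 0) (hc : c ^ p = 1) : rk (ep p c) = rk (c - 1) := by rw [rk, rk, range_ep hF hc]

theorem exists_ns (hQ : Nondeg Q) (h1 : η * η = η) (h2 : Sa Q η) (h : η ≠ 0) : ∃ v, η v = v ∧ Q v ≠ 0 := by
  by_contra hn
  push Not at hn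
  have h3 : ∀ x, Q (η x) = 0 := fun x => hn _ (by rw [← End.mul_apply, h1])
  refine h (LinearMap.ext fun x => hQ _ fun y => ?_)
  rw [← h1, End.mul_apply, h2, QuadraticMap.polar, ← map_add, h3, h3, h3, sub_zero, sub_zero]

theorem not_eig (hp2 : p ≠ 2) (hF : (p : F) ≠ 0) (h : Iso Q c) (hc : c ^ p = 1) {v : V} (h1 : ep p c v = v) (h2 : Q v ≠ 0)
    (a : F) : c v ≠ a • v := fun e => by
  have h0 : v ≠ 0 := fun e => h2 (by rw [e, map_zero])
  have h3 : a * a = 1 := by
    have := h v
    rw [e, QuadraticMap.map_smul, smul_eq_mul] at this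
    exact mul_right_cancel₀ h2 (this.trans (one_mul _).symm)
  have h4 : ∀ n : ℕ, (c ^ n) v = a ^ n • v := fun n => by
    induction n with
    | zero => simp
    | succ n ih => rw [pow_succ, End.mul_apply, e, map_smul, ih, smul_smul, pow_succ']
  have h5 : a ^ p = 1 := by
    have := h4 p
    rw [hc, End.one_apply] at this
    exact smul_left_injective F h0 (this.symm.trans (one_smul F v).symm)
  obtain ⟨k, hk⟩ := hp.out.odd_of_ne_two hp2
  rw [hk, pow_succ, pow_mul, pow_two, h3, one_pow, one_mul] at h5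
  rw [h5, one_smul] at e
  have h7 : av F p c v = v := by
    have h8 : ∀ n : ℕ, (c ^ n) v = v := fun n => by rw [h4, h5, one_pow, one_smul]
    rw [av, LinearMap.smul_apply, LinearMap.sum_apply]
    simp only [h8, Finset.sum_const, Finset.card_range]
    rw [← Nat.cast_smul_eq_nsmul F, smul_smul, inv_mul_cancel₀ hF, one_smul]
  rw [ep, LinearMap.sub_apply, h7, End.one_apply, sub_self] at h1
  exact h0 h1.symm

variable [FiniteDimensional F V]

theorem rk_le (h : η * c = c) : rk c ≤ rk η := Submodule.finrank_mono (range_le h)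

theorem rk_le_dim (c : End F V) : rk c ≤ finrank F V := Submodule.finrank_le _

theorem eq_zero_of_rk (h : rk c = 0) : c = 0 := LinearMap.range_eq_bot.1 (Submodule.finrank_eq_zero.1 h)

theorem eq_of_rk (h1 : η * η = η) (h2 : Commute η η') (h3 : η' * η = η) (h : rk η' ≤ rk η) : η = η' := by
  have h4 := Submodule.eq_of_le_of_finrank_le (range_le h3) h
  rw [← mul_eq_of_range h1 h4.ge, h2.eq, h3]

theorem rk_conj {a : (End F V)ˣ} (h : (a : End F V) * c = c' * a) : rk c' ≤ rk c := by
  have h1 : LinearMap.range c' ≤ (LinearMap.range c).map (a : End F V) := by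
    rintro _ ⟨x, rfl⟩
    exact ⟨_, ⟨(a⁻¹ : (End F V)ˣ).1 x, rfl⟩, by rw [← End.mul_apply, h, End.mul_apply, ← End.mul_apply a.1, Units.mul_inv,
      End.one_apply]⟩
  exact (Submodule.finrank_mono h1).trans (Submodule.finrank_map_le _ _)

theorem sum_rk_le {ι : Type} [Fintype ι] {E : ι → End F V} (h1 : ∀ i, E i * E i = E i) (h2 : ∀ i j, i ≠ j → E i * E j = 0)
    (h3 : ∀ i, η * E i = E i) : ∑ i, rk (E i) ≤ rk η := by
  classical
  let φ : (∀ i, LinearMap.range (E i)) →ₗ[F] LinearMap.range η :=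
    ∑ i, Submodule.inclusion (range_le (h3 i)) ∘ₗ LinearMap.proj i
  have h4 : ∀ w i, E i (φ w) = w i := fun w i => by
    have h5 : ((φ w : LinearMap.range η) : V) = ∑ j, (w j : V) := by simp [φ]
    rw [h5, map_sum, Finset.sum_eq_single i]
    · obtain ⟨x, hx⟩ := (w i).2
      rw [← hx, ← End.mul_apply, h1]
    · intro j _ hj
      obtain ⟨x, hx⟩ := (w j).2
      rw [← hx, ← End.mul_apply, h2 i j hj.symm, LinearMap.zero_apply]
    · simp
  have h6 : Function.Injective φ := fun w w' e => funext fun i => Subtype.ext (by rw [← h4, e, h4])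
  have h7 := LinearMap.finrank_le_finrank_of_injective h6
  rwa [finrank_pi_fintype] at h7

theorem two_le_rk (hp2 : p ≠ 2) (hF : (p : F) ≠ 0) (hQ : Nondeg Q) (h : Iso Q c) (hc : c ^ p = 1) (h1 : c ≠ 1) :
    2 ≤ rk (c - 1) := by
  obtain ⟨v, h2, h3⟩ := exists_ns hQ (ep_idem hF hc) (sa_ep hF h hc) (ep_ne_zero hF hc h1)
  have h0 : v ≠ 0 := fun e => h3 (by rw [e, map_zero])
  by_contra hn
  have h4 : Submodule.span F {v} = LinearMap.range (ep p c) :=
    Submodule.eq_of_le_of_finrank_le ((Submodule.span_singleton_le_iff_mem _ _).2 ⟨v, h2⟩) (by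
      rw [finrank_span_singleton h0]
      have := rk_ep hF hc
      unfold rk at this hn
      omega)
  have h5 : c v ∈ Submodule.span F {v} := by
    rw [h4]
    exact ⟨c v, by rw [← End.mul_apply, ← (commute_ep (Commute.refl c)).eq, End.mul_apply, h2]⟩
  obtain ⟨a, ha⟩ := Submodule.mem_span_singleton.1 h5
  exact not_eig hp2 hF h hc h2 h3 a ha.symm

/-! ### the pieces `Fk` -/

section Fk

variable {a b z : (End F V)ˣ}

theorem commute_Fk_ep (hzb : Commute z b) (k : ZMod p) : Commute (Fk F b z k) (ep p (z : End F V)) :=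
  commute_ep (commute_Fk (F := F) hzb.units_val (Commute.refl _) k).symm

theorem ep_mul_Fk (hF : (p : F) ≠ 0) (hz : z ^ p = 1) (hzb : Commute z b) (k : ZMod p) :
    ep p (z : End F V) * Fk F b z k = Fk F b z k := by
  rw [← (commute_Fk_ep hzb k).eq, Fk, mul_assoc]
  exact congrArg _ (ep_idem hF (val_pow_one hz))

theorem Fk_mul (hF : (p : F) ≠ 0) (hz : z ^ p = 1) (hzb : Commute z b) (j k : ZMod p) :
    Fk F b z j * Fk F b z k = fk F b z j * Fk F b z k := by
  rw [Fk, mul_assoc]
  exact congrArg _ (ep_mul_Fk hF hz hzb k)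

theorem sa_Fk (hF : (p : F) ≠ 0) (hb : b ^ p = 1) (hz : z ^ p = 1) (hzb : Commute z b) (h1 : Iso Q b) (h2 : Iso Q z)
    (k : ZMod p) : Sa Q (Fk F b z k) := by
  refine (sa_av hF ?_ (val_pow_one (pow_bz hb hz hzb _))).mul (sa_ep hF h2 (val_pow_one hz))
    (commute_ep (commute_fk (F := F) hzb.units_val (Commute.refl _) k).symm)
  rw [Units.val_mul, zt, Units.val_pow_eq_pow_val]
  exact h1.mul (h2.pow _)

/-- a central commutator -/
theorem na (hF : (p : F) ≠ 0) (hb : b ^ p = 1) (hz : z ^ p = 1) (hzb : Commute z b) (hza : Commute z a)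
    (hab : a * b = z * b * a) (h1 : z ≠ 1) : Fk F b z (0 : ZMod p) ≠ 0 ∧ p * rk (Fk F b z (0 : ZMod p)) ≤ rk (z.1 - 1) := by
  have h2 : ∀ (n : ℕ) (k : ZMod p), rk (Fk F b z k) ≤ rk (Fk F b z (k + (n : ZMod p))) := fun n k => by
    induction n with
    | zero => simp
    | succ n ih =>
      refine ih.trans ?_
      have := rk_conj (a_mul_Fk (F := F) hz hzb hza hab (k + ((n + 1 : ℕ) : ZMod p)))
      rwa [Nat.cast_succ, ← add_assoc, add_sub_cancel_right, add_assoc, ← Nat.cast_succ] at this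
  have h3 : ∀ k k' : ZMod p, rk (Fk F b z k) ≤ rk (Fk F b z k') := fun k k' => by
    have := h2 (k' - k).val k
    rwa [ZMod.natCast_zmod_val, add_sub_cancel] at this
  constructor
  · intro e
    refine ep_ne_zero hF (val_pow_one hz) (fun e => h1 (Units.ext e)) ((sum_Fk hF hz hzb).symm.trans ?_)
    refine Finset.sum_eq_zero fun k _ => eq_zero_of_rk (Nat.le_zero.1 ((h3 k 0).trans ?_))
    rw [e, rk, LinearMap.range_zero, finrank_bot]
  · rw [← rk_ep hF (val_pow_one hz)]
    refine le_trans ?_ (sum_rk_le (E := fun k : ZMod p => Fk F b z k)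
      (fun k => (Fk_mul hF hz hzb k k).trans (fk_mul_Fk_self hF hb hz hzb k))
      (fun j k h => (Fk_mul hF hz hzb j k).trans (fk_mul_Fk_ne hF hb hz hzb h)) (ep_mul_Fk hF hz hzb))
    have := Finset.card_nsmul_le_sum Finset.univ (fun k : ZMod p => rk (Fk F b z k)) _ fun k _ => h3 0 k
    rwa [Finset.card_univ, ZMod.card, smul_eq_mul] at this

end Fk

/-! ### reflections -/

theorem iso_refl {v : V} (hv : Q v ≠ 0) : Iso Q (reflLin Q v) := refl_mem_O hv

theorem commute_refl (h : Iso Q c) {v : V} (hv : c v = v) : Commute (reflLin Q v) c := by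
  ext x
  simp only [End.mul_apply, reflLin_apply, map_sub, map_smul, hv]
  rw [← h.polar v x, hv]

/-- a square of an isometry which commutes with `c` but not with `c'` -/
theorem nc [Fintype F] (h4 : 4 ≤ Fintype.card F) (hp2 : p ≠ 2) (hF : (p : F) ≠ 0) (hQ : Nondeg Q) (h : Iso Q c) (h' : Iso Q c')
    (hc' : c' ^ p = 1) (h1 : c' ≠ 1) (h2 : c * ep p c' = ep p c') (h3 : rk (c - 1) + 3 ≤ finrank F V) :
    ∃ y, Iso Q y ∧ Commute (y * y) c ∧ ¬ Commute (y * y) c' := by
  classical
  obtain ⟨v, hv, hv0⟩ := exists_ns hQ (ep_idem hF hc') (sa_ep hF h' hc') (ep_ne_zero hF hc' h1)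
  have h0 : v ≠ 0 := fun e => hv0 (by rw [e, map_zero])
  have hU : ∀ x, c (ep p c' x) = ep p c' x := fun x => by rw [← End.mul_apply, h2]
  have hcv : c v = v := by rw [← hv, hU]
  let P := Submodule.span F {v, c' v}
  have hvP : v ∈ P := Submodule.subset_span (by simp)
  have hvP' : c' v ∈ P := Submodule.subset_span (by simp)
  obtain ⟨t, ht, htP, htv⟩ : ∃ t, c t = t ∧ t ∉ P ∧ polar Q v t ≠ 0 := by
    obtain ⟨t1, a1, a2⟩ : ∃ t, c t = t ∧ t ∉ P := by
      by_contra hn
      push Not at hn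
      have e1 : finrank F (LinearMap.ker (c - 1)) ≤ finrank F P :=
        Submodule.finrank_mono fun x hx => hn x (sub_eq_zero.1 hx)
      have e2 : finrank F P ≤ 2 := (finrank_span_le_card _).trans (by
        rw [Set.toFinset_insert, Set.toFinset_singleton]; exact Finset.card_le_two)
      have e3 := LinearMap.finrank_range_add_finrank_ker (c - 1)
      unfold rk at h3
      omega
    obtain ⟨y, hy⟩ := hQ.exists_polar_ne h0
    rw [← hv, sa_ep hF h' hc'] at hy
    by_cases b1 : polar Q v t1 = 0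
    · by_cases b2 : ep p c' y ∈ P
      · exact ⟨t1 + ep p c' y, by rw [map_add, a1, hU], fun e => a2 ((P.add_mem_iff_left b2).1 e), by
          rwa [polar_add_right, b1, zero_add]⟩
      · exact ⟨_, hU y, b2, hy⟩
    · exact ⟨t1, a1, a2, b1⟩
  obtain ⟨s, hs, hsP, hsv, hs0⟩ : ∃ s, c s = s ∧ s ∉ P ∧ polar Q v s ≠ 0 ∧ Q s ≠ 0 := by
    by_cases b1 : Q t = 0
    · obtain ⟨k, hk⟩ : ∃ k : F, k ∉ ({0, 1, 2⁻¹} : Finset F) := by
        by_contra hn
        push Not at hn
        have e1 := Finset.card_le_card (show Finset.univ ⊆ ({0, 1, 2⁻¹} : Finset F) from fun k _ => hn k)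
        have e2 := Finset.card_le_three (a := (0 : F)) (b := 1) (c := 2⁻¹)
        rw [Finset.card_univ] at e1
        omega
      simp only [Finset.mem_insert, Finset.mem_singleton, not_or] at hk
      refine ⟨t + (-(k * polar Q v t / Q v)) • v, by rw [map_add, map_smul, ht, hcv],
        fun e => htP ((P.add_mem_iff_left (P.smul_mem _ hvP)).1 e), ?_, ?_⟩
      · rw [polar_add_right, polar_smul_right, polar_self', smul_eq_mul]
        have e : polar Q v t + -(k * polar Q v t / Q v) * (2 * Q v) = (1 - 2 * k) * polar Q v t := by field_simp; ring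
        rw [e]
        exact mul_ne_zero (fun e => hk.2.2 (eq_inv_of_mul_eq_one_right (sub_eq_zero.1 e).symm)) htv
      · rw [Q_add, b1, polar_smul_right, QuadraticMap.map_smul, polar_comm Q t v, smul_eq_mul, smul_eq_mul]
        have e : 0 + -(k * polar Q v t / Q v) * -(k * polar Q v t / Q v) * Q v + -(k * polar Q v t / Q v) * polar Q v t =
            k * (k - 1) * polar Q v t * polar Q v t / Q v := by field_simp; ring
        rw [e]
        exact div_ne_zero (mul_ne_zero (mul_ne_zero (mul_ne_zero hk.1 (sub_ne_zero.2 hk.2.1)) htv) htv) hv0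
    · exact ⟨t, ht, htP, htv, b1⟩
  have hc := (commute_refl h hcv).mul_left (commute_refl h hs)
  refine ⟨reflLin Q v * reflLin Q s, (iso_refl hv0).mul (iso_refl hs0), hc.mul_left hc, fun hy => ?_⟩
  obtain ⟨g, hg, hg0⟩ : ∃ g : F, reflLin Q s v = v - g • s ∧ g ≠ 0 :=
    ⟨_, reflLin_apply s v, mul_ne_zero (inv_ne_zero hs0) (by rwa [polar_comm])⟩
  have e1 : ∀ x, reflLin Q s (reflLin Q v (reflLin Q s x)) = x - ((Q v)⁻¹ * polar Q (v - g • s) x) • (v - g • s) := fun x => by
    rw [reflLin_apply v, map_sub, map_smul, reflLin_reflLin hs0, ← (iso_refl hs0).polar, reflLin_reflLin hs0, hg]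
  obtain ⟨x, x1, x2⟩ : ∃ x, polar Q (v - g • s) x = 0 ∧ polar Q v x ≠ 0 := by
    by_contra hn
    push Not at hn
    have b1 : v - g • s ≠ 0 := fun e => hsP (by
      rw [show s = g⁻¹ • v by rw [sub_eq_zero.1 e, inv_smul_smul₀ hg0]]
      exact P.smul_mem _ hvP)
    obtain ⟨x0, hx0⟩ := hQ.exists_polar_eq b1 1
    have b2 : v - polar Q v x0 • (v - g • s) = 0 := hQ _ fun x => by
      have := hn (x - polar Q (v - g • s) x • x0) (by rw [polar_sub_right, polar_smul_right, hx0, smul_eq_mul, mul_one, sub_self])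
      rw [polar_sub_right, polar_smul_right, smul_eq_mul, mul_comm] at this
      rw [polar_sub_left, polar_smul_left, smul_eq_mul, this]
    have b3 : polar Q v x0 ≠ 0 := fun e => h0 (by simpa [e] using b2)
    have b4 : (polar Q v x0 * g) • s ∈ P := by
      rw [show (polar Q v x0 * g) • s = polar Q v x0 • v - v by
        rw [smul_sub, smul_smul, sub_sub_eq_add_sub, sub_eq_zero] at b2
        rw [← b2, add_sub_cancel_left]]
      exact P.sub_mem (P.smul_mem _ hvP) hvP
    exact hsP ((P.smul_mem_iff (mul_ne_zero b3 hg0)).1 b4)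
  have e2 := LinearMap.congr_fun hy.eq x
  simp only [End.mul_apply, e1, x1, mul_zero, zero_smul, sub_zero] at e2
  rw [reflLin_apply v x, reflLin_apply v, map_sub, map_smul, sub_sub, sub_right_inj] at e2
  have k0 : (Q v)⁻¹ * polar Q v x ≠ 0 := mul_ne_zero (inv_ne_zero hv0) x2
  generalize (Q v)⁻¹ * polar Q v x = k at e2 k0
  generalize (Q v)⁻¹ * polar Q v _ = k2 at e2
  generalize (Q v)⁻¹ * polar Q (v - g • s) _ = k1 at e2
  by_cases b : k1 = 0
  · rw [b, zero_smul, zero_add] at e2
    exact not_eig hp2 hF h' hc' hv hv0 (k⁻¹ * k2) (by rw [mul_smul, e2, inv_smul_smul₀ k0])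
  · have b4 : (k1 * g) • s ∈ P := by
      rw [show (k1 * g) • s = k1 • v + k2 • v - k • c' v by rw [← e2, smul_sub, smul_smul]; abel]
      exact P.sub_mem (P.add_mem (P.smul_mem _ hvP) (P.smul_mem _ hvP)) (P.smul_mem _ hvP')
    exact hsP ((P.smul_mem_iff (mul_ne_zero b hg0)).1 b4)

end Cfsg.Agent.TO.D4A
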