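import Cfsg.Agent.TO.D4A.Lin

/-!
# S4817, `PΩ₈⁺(q)`: elementary abelian subgroups closed under cuts (helper37)

`St` : the setting; `Lc p D` : `D` is elementary abelian and contains the elements of order `p` of its double centralizer;
`Mn ρ D u` : the support of `u` has minimal dimension.
-/

set_option autoImplicit false
set_option linter.unusedSectionVars false

namespace Cfsg.Agent.TO.D4A

open Module QuadraticMap Cfsg.Agent.BHZ.Nil Cfsg.Agent.LieClassical.OrthCore Subgroup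

section Grp

variable {G : Type*} [Group G]

/-- the nontrivial powers -/
def Z1 (u : G) : Set G := (zpowers u : Set G) \ {1}

theorem ncard_Z1 [Finite G] {p : ℕ} (hp : 0 < p) {u : G} (h : u ^ p = 1) : (Z1 u).ncard ≤ p - 1 := by
  rw [Z1, Set.ncard_sdiff_singleton_of_mem (one_mem (zpowers u)), ← Nat.card_coe_set_eq, SetLike.coe_sort_coe, Nat.card_zpowers]
  exact Nat.sub_le_sub_right (orderOf_le_of_pow_eq_one hp h) 1

theorem three_cases [Finite G] {Γ : Subgroup G} (h : Γ.index = 3) (B : Subgroup G) :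
    (∃ β, ∀ α ∈ B, β⁻¹ * α * β ∈ Γ) ∨ Γ.relIndex B = 3 := by
  have h1 : Γ.relIndex B = (MulAction.orbit B ((1 : G) : G ⧸ Γ)).ncard := by
    rw [← MulAction.index_stabilizer, relIndex]
    congr 1
    ext x
    rw [mem_subgroupOf, ← SetLike.ext_iff.1 (MulAction.stabilizer_quotient Γ)]
    rfl
  have h2 := Set.ncard_add_ncard_compl (MulAction.orbit B ((1 : G) : G ⧸ Γ))
  have h3 : Γ.relIndex B ≠ 0 := index_ne_zero_of_finite
  rw [← h1, ← index, h] at h2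
  by_cases h4 : Γ.relIndex B = 1
  · exact .inl ⟨1, fun α hα => by simpa using relIndex_eq_one.1 h4 hα⟩
  by_cases h5 : Γ.relIndex B = 2
  · obtain ⟨c, hc⟩ := Set.ncard_eq_one.1 (show (MulAction.orbit B ((1 : G) : G ⧸ Γ))ᶜ.ncard = 1 by omega)
    obtain ⟨β, rfl⟩ := QuotientGroup.mk_surjective c
    refine .inl ⟨β, fun α hα => ?_⟩
    have h6 : ((α * β : G) : G ⧸ Γ) ∈ (MulAction.orbit B ((1 : G) : G ⧸ Γ))ᶜ := fun ⟨γ, hγ⟩ => by
      have h7 : (β : G ⧸ Γ) ∈ (MulAction.orbit B ((1 : G) : G ⧸ Γ))ᶜ := hc ▸ rfl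
      refine h7 ⟨(⟨α, hα⟩ : B)⁻¹ * γ, ?_⟩
      simp only [mul_smul] at hγ ⊢
      rw [hγ, inv_smul_eq_iff]
      rfl
    rw [hc] at h6
    rw [mul_assoc]
    exact QuotientGroup.eq.1 h6.symm
  · exact .inr (by omega)

theorem exists_three [Finite G] {H : Subgroup G} (h : H.index = 3) : ∃ α : G, ∀ j : ℤ, ¬ 3 ∣ j → α ^ j ∉ H := by
  have : Fact (Nat.Prime 3) := ⟨Nat.prime_three⟩
  obtain ⟨P⟩ : Nonempty (Sylow 3 G) := inferInstance
  obtain ⟨α, h1, h2⟩ : ∃ α ∈ (P : Subgroup G), α ∉ H := by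
    by_contra hn
    push Not at hn
    exact P.not_dvd_index (h.symm.dvd.trans (index_dvd_of_le hn))
  refine ⟨α, fun j hj h3 => h2 (zpowers_le.2 h3 (mem_zpowers_zpow_iff.2 ?_))⟩
  obtain ⟨k, hk⟩ := IsPGroup.iff_orderOf.1 P.isPGroup' ⟨α, h1⟩
  rw [← orderOf_coe] at hk
  rw [show orderOf α = 3 ^ k from hk, Int.gcd, Int.natAbs_natCast]
  exact Nat.Coprime.pow_right _ ((Nat.Prime.coprime_iff_not_dvd Nat.prime_three).2 fun e => hj (Int.natCast_dvd.2 e)).symm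

theorem orb_count [Finite G] {Ω : Type*} [MulAction G Ω] {H : Subgroup G} (h : H.index = 3) (u : Ω) :
    ∃ s, 1 ≤ s ∧ s ≤ 3 ∧ (MulAction.orbit H u).ncard * 3 = s * (MulAction.orbit G u).ncard ∧
      (s = 1 → MulAction.stabilizer G u ≤ H) := by
  refine ⟨H.relIndex (MulAction.stabilizer G u), Nat.pos_of_ne_zero index_ne_zero_of_finite, ?_, ?_, relIndex_eq_one.1⟩
  · rw [← h, ← relIndex_top_right]
    exact relIndex_le_of_le_right le_top index_ne_zero_of_finite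
  · rw [← MulAction.index_stabilizer, ← MulAction.index_stabilizer, ← h, ← inf_relIndex_right, relIndex_mul_index inf_le_right,
      ← relIndex_mul_index (inf_le_left (a := H)), inf_relIndex_left]
    rfl

end Grp

variable {F V : Type} [Field F] [AddCommGroup V] [Module F V] [FiniteDimensional F V] {Q : QuadraticForm F V} {p : ℕ}
  [hp : Fact p.Prime] {Y X : Type} [Group Y] [Group X] {ρ : Y →* End F V} {D : Subgroup Y} {η : End F V} {u u' : Y}

/-- the setting -/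
structure St (p : ℕ) (Q : QuadraticForm F V) (ρ : Y →* End F V) : Prop where
  odd : p ≠ 2
  hF : (p : F) ≠ 0
  nd : Nondeg Q
  dim : finrank F V = 8
  inj : Function.Injective ρ
  iso : ∀ y, Iso Q (ρ y)
  sq : ∀ c, Iso Q c → ∃ y, ρ y = c * c

/-- the local conditions -/
structure Lc (p : ℕ) (D : Subgroup Y) : Prop where
  pw : ∀ d ∈ D, d ^ p = 1
  comm : ∀ a ∈ D, ∀ b ∈ D, Commute a b
  syl : ∀ x, x ^ p = 1 → (∀ y, (∀ d ∈ D, Commute y d) → Commute y x) → x ∈ D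
  nc : ∀ u ∈ D, ∃ v ∈ D, v ∉ zpowers u

/-- minimal support -/
structure Mn (ρ : Y →* End F V) (D : Subgroup Y) (u : Y) : Prop where
  mem : u ∈ D
  ne : u ≠ 1
  le : ∀ v ∈ D, v ≠ 1 → rk (ρ u - 1) ≤ rk (ρ v - 1)

/-- the elements which fix `η` -/
def Fx (ρ : Y →* End F V) (η : End F V) : Subgroup Y where
  carrier := {y | ρ y * η = η}
  one_mem' := by simp
  mul_mem' {a b} ha hb := by
    show ρ (a * b) * η = η
    rw [map_mul, mul_assoc, hb, ha]
  inv_mem' {a} ha := by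
    show ρ a⁻¹ * η = η
    conv_lhs => rw [← show ρ a * η = η from ha, ← mul_assoc, ← map_mul, inv_mul_cancel, map_one, one_mul]

theorem rho_pow (h : u ^ p = 1) : ρ u ^ p = 1 := by rw [← map_pow, h, map_one]

theorem St.ne (S : St p Q ρ) (h : u ≠ 1) : ρ u ≠ 1 := fun e => h (S.inj (e.trans (map_one ρ).symm))

theorem St.comm (S : St p Q ρ) (h : Commute (ρ u) (ρ u')) : Commute u u' := S.inj (by rw [map_mul, map_mul, h.eq])

theorem St.not_fx (S : St p Q ρ) (h : u ^ p = 1) (h1 : u ≠ 1) : u ∉ Fx ρ (ep p (ρ u)) := fun e =>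
  ep_ne_zero S.hF (rho_pow h) (S.ne h1) ((ep_idem S.hF (rho_pow h)).symm.trans ((ep_mul_eq_zero S.hF (rho_pow h)).2 e))

theorem St.cut (S : St p Q ρ) (hu : u ^ p = 1) (h1 : η * η = η) (h2 : Sa Q η) (h3 : Commute (ρ u) η)
    (h4 : ep p (ρ u) * η = η) : ∃ v : Y, v ^ p = 1 ∧ (η ≠ 0 → v ≠ 1) ∧ rk (ρ v - 1) ≤ rk η ∧
      ∀ y, Commute y u → Commute (ρ y) η → Commute y v := by
  obtain ⟨k, hk⟩ := hp.out.odd_of_ne_two S.odd
  have h5 : (ρ u * η + (1 - η)) ^ p = 1 := by rw [cut_pow h1 h3, rho_pow hu, one_mul, add_sub_cancel]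
  obtain ⟨v, hv⟩ := S.sq _ ((iso_cut (S.iso u) h1 h2 h3).pow (k + 1))
  rw [← pow_add, show k + 1 + (k + 1) = p + 1 by omega, pow_succ, h5, one_mul] at hv
  refine ⟨v, S.inj (by rw [map_pow, hv, h5, map_one]), fun h e => h ?_, rk_le ?_, fun y a1 a2 => S.comm ?_⟩
  · rw [e, map_one, ← add_sub_assoc, eq_sub_iff_add_eq, add_comm, add_left_inj] at hv
    rw [← h4, (ep_mul_eq_zero S.hF (rho_pow hu)).2 hv.symm]
  · rw [hv, h3.eq, mul_sub, mul_add, mul_sub, ← mul_assoc, h1, mul_one]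
    abel
  · rw [hv]
    exact ((a1.map ρ).mul_right a2).add_right ((Commute.one_right _).sub_right a2)

/-- central commutators -/
theorem St.na (S : St p Q ρ) {a b z : Y} (hb : b ^ p = 1) (hz : z ^ p = 1) (hzb : Commute z b) (hza : Commute z a)
    (hab : a * b = z * b * a) (h1 : z ≠ 1) : p ≤ rk (ρ z - 1) ∧ ∃ v : Y, v ^ p = 1 ∧ v ≠ 1 ∧ p * rk (ρ v - 1) ≤ 8 ∧
      ∀ y, Commute y z → Commute y b → Commute y v := by
  have b1 : ρ.toHomUnits b ^ p = 1 := by rw [← map_pow, hb, map_one]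
  have b2 : ρ.toHomUnits z ^ p = 1 := by rw [← map_pow, hz, map_one]
  have b3 := hzb.map ρ.toHomUnits
  obtain ⟨h2, h3⟩ := D4A.na S.hF b1 b2 b3 (hza.map ρ.toHomUnits) (by rw [← map_mul, hab, map_mul, map_mul])
    fun e => S.ne h1 (congrArg Units.val e)
  obtain ⟨v, v1, v2, v3, v4⟩ := S.cut hz ((Fk_mul S.hF b2 b3 0 0).trans (fk_mul_Fk_self S.hF b1 b2 b3 0))
    (sa_Fk S.hF b1 b2 b3 (S.iso b) (S.iso z) 0) (commute_Fk b3.units_val (Commute.refl _) 0) (ep_mul_Fk S.hF b2 b3 0)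
  refine ⟨le_trans (Nat.le_mul_of_pos_right _ (Nat.pos_of_ne_zero fun e => h2 (eq_zero_of_rk e))) h3, v, v1, v2 h2,
    (Nat.mul_le_mul_left _ v3).trans (h3.trans ((rk_le_dim _).trans S.dim.le)), fun y a1 a2 => v4 y a1 ?_⟩
  exact commute_Fk (a2.map ρ) (a1.map ρ) 0

variable (S : St p Q ρ) (L : Lc p D)
include S L

theorem atom (hu : Mn ρ D u) (h1 : η * η = η) (h2 : Sa Q η) (h3 : ∀ y, (∀ d ∈ D, Commute y d) → Commute (ρ y) η)
    (h4 : ep p (ρ u) * η = η) : η = 0 ∨ η = ep p (ρ u) := by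
  have h5 := h3 u (L.comm u hu.mem)
  obtain ⟨v, v1, v2, v3, v4⟩ := S.cut (L.pw u hu.mem) h1 h2 h5 h4
  refine or_iff_not_imp_left.2 fun h => eq_of_rk h1 (commute_ep h5.symm) h4 ?_
  rw [rk_ep S.hF (rho_pow (L.pw u hu.mem))]
  exact (hu.le v (L.syl v v1 fun y hy => v4 y (hy u hu.mem) (h3 y hy)) (v2 h)).trans v3

theorem act (hu : Mn ρ D u) (hd : u' ∈ D) : ∃ k : ℕ, ρ u' * ep p (ρ u) = ρ u ^ k * ep p (ρ u) := by
  have b1 : ρ.toHomUnits u' ^ p = 1 := by rw [← map_pow, L.pw _ hd, map_one]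
  have b2 : ρ.toHomUnits u ^ p = 1 := by rw [← map_pow, L.pw _ hu.mem, map_one]
  have b3 := (L.comm u hu.mem u' hd).map ρ.toHomUnits
  obtain ⟨k, -, hk⟩ := Finset.exists_ne_zero_of_sum_ne_zero
    ((sum_Fk S.hF b2 b3).trans_ne (ep_ne_zero S.hF (rho_pow (L.pw u hu.mem)) (S.ne hu.ne)))
  have h := (atom S L hu ((Fk_mul S.hF b2 b3 k k).trans (fk_mul_Fk_self S.hF b1 b2 b3 k))
    (sa_Fk S.hF b1 b2 b3 (S.iso _) (S.iso _) k) (fun y hy => commute_Fk ((hy _ hd).map ρ) ((hy _ hu.mem).map ρ) k)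
    (ep_mul_Fk S.hF b2 b3 k)).resolve_left hk
  have h2 := b_mul_Fk (F := F) b1 b2 b3 k
  rw [h, zt, Units.val_pow_eq_pow_val] at h2
  exact ⟨_, h2⟩

theorem mem_of_ep (hu : Mn ρ D u) (hd : u' ∈ D) (h : ep p (ρ u) = ep p (ρ u')) : u' ∈ zpowers u := by
  obtain ⟨k, hk⟩ := act S L hu hd
  have h1 := rho_pow (ρ := ρ) (L.pw u hu.mem)
  refine ⟨k, S.inj ?_⟩
  rw [← cut_ep (rho_pow (L.pw _ hd)), ← h, hk, ← cut_pow (ep_idem S.hF h1) (commute_ep (Commute.refl _)), cut_ep h1]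
  simp

theorem dich (hu : Mn ρ D u) (hu' : Mn ρ D u') : ep p (ρ u') * ep p (ρ u) = 0 ∨ ep p (ρ u) = ep p (ρ u') := by
  have h1 := rho_pow (ρ := ρ) (L.pw u hu.mem)
  have h2 := rho_pow (ρ := ρ) (L.pw u' hu'.mem)
  have hc : Commute (ep p (ρ u')) (ep p (ρ u)) := commute_ep (commute_ep ((L.comm _ hu.mem _ hu'.mem).map ρ)).symm
  have a1 : ep p (ρ u') * (ep p (ρ u') * ep p (ρ u)) = ep p (ρ u') * ep p (ρ u) := by rw [← mul_assoc, ep_idem S.hF h2]
  have a2 : ep p (ρ u) * (ep p (ρ u') * ep p (ρ u)) = ep p (ρ u') * ep p (ρ u) := by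
    rw [hc.eq, ← mul_assoc, ep_idem S.hF h1]
  have a3 : ep p (ρ u') * ep p (ρ u) * (ep p (ρ u') * ep p (ρ u)) = ep p (ρ u') * ep p (ρ u) := by rw [mul_assoc, a2, a1]
  have a4 := (sa_ep S.hF (S.iso u') h2).mul (sa_ep S.hF (S.iso u) h1) hc
  have a5 : ∀ y, (∀ d ∈ D, Commute y d) → Commute (ρ y) (ep p (ρ u') * ep p (ρ u)) := fun y hy =>
    (commute_ep ((hy _ hu'.mem).map ρ)).mul_right (commute_ep ((hy _ hu.mem).map ρ))
  rcases atom S L hu a3 a4 a5 a2 with h | h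
  · exact .inl h
  · exact (atom S L hu' a3 a4 a5 a1).imp_right h.symm.trans

theorem orth (hu : Mn ρ D u) (hu' : Mn ρ D u') (h : u' ∉ zpowers u) :
    ep p (ρ u') * ep p (ρ u) = 0 ∧ ep p (ρ u) * ep p (ρ u') = 0 := by
  have h1 : ep p (ρ u) ≠ ep p (ρ u') := fun e => h (mem_of_ep S L hu hu'.mem e)
  exact ⟨(dich S L hu hu').resolve_right h1, (dich S L hu' hu).resolve_right h1.symm⟩

theorem fx_of (hu : Mn ρ D u) (hu' : Mn ρ D u') (h : u' ∉ zpowers u) : u' ∈ Fx ρ (ep p (ρ u)) ∧ u ∈ Fx ρ (ep p (ρ u')) :=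
  ⟨(ep_mul_eq_zero S.hF (rho_pow (L.pw _ hu'.mem))).1 (orth S L hu hu' h).1,
    (ep_mul_eq_zero S.hF (rho_pow (L.pw _ hu.mem))).1 (orth S L hu hu' h).2⟩

/-- the rank is not constant -/
theorem not_const (h : ∀ u ∈ D, ∀ v ∈ D, u ≠ 1 → v ≠ 1 → rk (ρ u - 1) = rk (ρ v - 1)) : False := by
  have hm : ∀ u ∈ D, u ≠ 1 → Mn ρ D u := fun u h1 h2 => ⟨h1, h2, fun v h3 h4 => (h u h1 v h3 h2 h4).le⟩
  obtain ⟨u, h1, h2⟩ := L.nc 1 (one_mem D)
  have h3 : u ≠ 1 := fun e => h2 (by rw [e]; exact one_mem _)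
  obtain ⟨v, h4, h5⟩ := L.nc u h1
  have h6 : u * v ∉ zpowers u := fun e => h5 ((mul_mem_cancel_left (mem_zpowers u)).1 e)
  have h7 := (fx_of S L (hm u h1 h3) (hm v h4 fun e => h5 (e ▸ one_mem _)) h5).1
  have h8 := (fx_of S L (hm u h1 h3) (hm _ (mul_mem h1 h4) fun e => h6 (e ▸ one_mem _)) h6).1
  exact S.not_fx (L.pw u h1) h3 ((mul_mem_cancel_right h7).1 h8)

variable [Finite Y]

theorem exists_mn : ∃ u, Mn ρ D u := by
  obtain ⟨u, h1, h2⟩ := L.nc 1 (one_mem D)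
  obtain ⟨v, h3, h4⟩ := Set.exists_min_image {v | v ∈ D ∧ v ≠ 1} (fun v => rk (ρ v - 1)) (Set.toFinite _)
    ⟨u, h1, fun e => h2 (by rw [e]; exact one_mem _)⟩
  exact ⟨v, h3.1, h3.2, fun w a b => h4 w ⟨a, b⟩⟩

theorem ncard_mn : {u | Mn ρ D u}.ncard ≤ (p - 1) * 4 := by
  classical
  let s : Finset Y := (Set.toFinite {u | Mn ρ D u}).toFinset
  have hs : ∀ u, u ∈ s ↔ Mn ρ D u := fun u => Set.Finite.mem_toFinset _
  have h1 := Finset.card_le_mul_card_image (f := fun u => ep p (ρ u)) s (p - 1) fun b hb => by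
    obtain ⟨u, hu, rfl⟩ := Finset.mem_image.1 hb
    rw [hs] at hu
    rw [← Set.ncard_coe_finset]
    refine (Set.ncard_le_ncard (fun v hv => ?_)).trans (ncard_Z1 hp.out.pos (L.pw u hu.mem))
    rw [Finset.mem_coe, Finset.mem_filter, hs] at hv
    exact ⟨mem_of_ep S L hu hv.1.mem hv.2.symm, hv.1.ne⟩
  have h2 : ∀ e : ↥(s.image fun u => ep p (ρ u)), ∃ u, Mn ρ D u ∧ ep p (ρ u) = e := fun e =>
    let ⟨u, a, b⟩ := Finset.mem_image.1 e.2
    ⟨u, (hs u).1 a, b⟩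
  choose w hw hw' using h2
  have h3 := sum_rk_le (η := 1) (E := fun e : ↥(s.image fun u => ep p (ρ u)) => e.1)
    (fun e => by rw [← hw']; exact ep_idem S.hF (rho_pow (L.pw _ (hw e).mem)))
    (fun e e' h => by
      have := (dich S L (hw e') (hw e)).resolve_right fun a => h (Subtype.ext (by rw [← hw', ← hw', a]))
      rwa [hw', hw'] at this) fun _ => one_mul _
  have h4 := Finset.card_nsmul_le_sum Finset.univ (fun e : ↥(s.image fun u => ep p (ρ u)) => rk e.1) 2 fun e _ => by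
    have a := rho_pow (ρ := ρ) (L.pw _ (hw e).mem)
    rw [← hw', rk_ep S.hF a]
    exact two_le_rk S.odd S.hF S.nd (S.iso _) a (S.ne (hw e).ne)
  have h5 := (h4.trans h3).trans ((rk_le_dim _).trans S.dim.le)
  rw [Finset.card_univ, Fintype.card_coe, smul_eq_mul] at h5
  rw [Set.ncard_eq_toFinset_card _ (Set.toFinite _)]
  exact h1.trans (Nat.mul_le_mul_left _ (by omega))

theorem two (hD : Nat.card D = p ^ 2) (hu : Mn ρ D u) (hu' : Mn ρ D u') (h : u' ∉ zpowers u) :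
    D = closure {u, u'} ∧ ∀ w, Mn ρ D w → w ∈ zpowers u ∨ w ∈ zpowers u' := by
  have h1 : closure {u, u'} ≤ D := (closure_le _).2 (Set.insert_subset hu.mem (Set.singleton_subset_iff.2 hu'.mem))
  have h2 : zpowers u ≤ closure {u, u'} := zpowers_le.2 (subset_closure (by simp))
  have h3 : Nat.card (zpowers u) = p := by rw [Nat.card_zpowers, orderOf_eq_prime (L.pw u hu.mem) hu.ne]
  have h4 : D = closure {u, u'} := by
    obtain ⟨k, k1, k2⟩ := (Nat.dvd_prime_pow hp.out).1 (hD ▸ card_dvd_of_le h1)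
    refine (eq_of_le_of_card_ge h1 ?_).symm
    rw [hD, k2]
    refine Nat.pow_le_pow_right hp.out.pos (not_lt.1 fun k3 => h ?_)
    rw [eq_of_le_of_card_ge h2 (by
      rw [h3, k2]
      exact (Nat.pow_le_pow_right hp.out.pos (Nat.le_of_lt_succ k3)).trans (pow_one p).le)]
    exact subset_closure (by simp)
  refine ⟨h4, fun w hw => by_contra fun hn => S.not_fx (L.pw w hw.mem) hw.ne ?_⟩
  rw [not_or] at hn
  have h5 : D ≤ Fx ρ (ep p (ρ w)) := h4 ▸ (closure_le _).2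
    (Set.insert_subset (fx_of S L hu hw hn.1).2 (Set.singleton_subset_iff.2 (fx_of S L hu' hw hn.2).2))
  exact h5 hw.mem

theorem rk_add (hu : Mn ρ D u) (hu' : Mn ρ D u') (h : u' ∉ zpowers u) : rk (ρ u - 1) = rk (ρ u' - 1) ∧ rk (ρ u - 1) ≤ 4 := by
  have h1 := rho_pow (ρ := ρ) (L.pw u hu.mem)
  have h2 := rho_pow (ρ := ρ) (L.pw u' hu'.mem)
  have h3 := sum_rk_le (η := 1) (E := fun b : Bool => if b then ep p (ρ u) else ep p (ρ u'))
    (fun b => by cases b <;> simp [ep_idem S.hF, h1, h2])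
    (fun b b' hb => by cases b <;> cases b' <;> simp_all [orth S L hu hu' h]) fun _ => one_mul _
  have h4 := h3.trans ((rk_le_dim _).trans S.dim.le)
  have h5 := le_antisymm (hu.le _ hu'.mem hu'.ne) (hu'.le _ hu.mem hu.ne)
  simp only [Fintype.sum_bool, if_true, Bool.false_eq_true, if_false, rk_ep S.hF h1, rk_ep S.hF h2] at h4
  omega

end Cfsg.Agent.TO.D4A
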