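import Cfsg.Agent.TO.D4A.Pure
import Cfsg.Agent.AutOrth.Main

/-!
# S4817, `PΩ₈⁺(q)`: `boxD4A` (helper37)
-/

set_option autoImplicit false
set_option linter.unusedSectionVars false

namespace Cfsg.Agent.TO

namespace D4A

open Module QuadraticMap Cfsg.Agent.BHZ.Nil Cfsg.Agent.LieClassical.OrthCore Cfsg.Agent.LieClassical.OrthTrans Subgroup
  Cfsg.Agent.AutOrth.Main Cfsg.Agent.AutOrth.SemiSim Cfsg.Agent.LieClassical.QuadForms
open scoped Matrix

/-- squares are in `E` -/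
theorem sq_mem_E {F V : Type} [Field F] [AddCommGroup V] [Module F V] [FiniteDimensional F V] {Q : QuadraticForm F V}
    (hG : Good Q) {g : V ≃ₗ[F] V} (hg : g ∈ O Q) : g * g ∈ E Q := by
  have hcomm : ∀ g ∈ O Q, ∀ h ∈ O Q, g * h * g⁻¹ * h⁻¹ ∈ E Q := fun g hg h hh =>
    hG.commutator_eq_E ▸ commutator_mem_commutator hg hh
  rw [O_eq_closure hG.nondeg] at hg hcomm
  induction hg using closure_induction with
  | mem x hx =>
    rcases hx with ⟨v, hv, rfl⟩ | hx
    · rw [refl_mul_self]; exact one_mem _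
    · exact mul_mem (subset_closure hx) (subset_closure hx)
  | one => rw [one_mul]; exact one_mem _
  | mul g h hg hh h1 h2 =>
    rw [show g * h * (g * h) = (g * g) * (g⁻¹ * h * g⁻¹⁻¹ * h⁻¹) * (h * h) by group]
    exact mul_mem (mul_mem h1 (hcomm _ (inv_mem hg) _ hh)) h2
  | inv g hg h =>
    rw [← mul_inv_rev]
    exact inv_mem h

variable {ι : Type} [Fintype ι] [DecidableEq ι] {F : Type} [Field F] {p : ℕ} [hp : Fact p.Prime]

/-- the natural representation -/
noncomputable def rho (R : (ι → F) → F) : Omega F R →* End F (ι → F) where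
  toFun u := Matrix.toLinAlgEquiv' (mat u)
  map_one' := map_one (Matrix.toLinAlgEquiv' (R := F) (n := ι))
  map_mul' a b := map_mul (Matrix.toLinAlgEquiv' (R := F) (n := ι)) (mat a) (mat b)

theorem rho_sub {R : (ι → F) → F} (u : Omega F R) : rho R u - 1 = Matrix.toLinAlgEquiv' (mat u - 1) := by
  rw [map_sub, map_one]
  rfl

theorem rk_rho {R : (ι → F) → F} (u : Omega F R) : rk (rho R u - 1) = (mat u - 1).rank := by
  rw [rho_sub]
  rfl

variable {Q : QuadraticForm F (ι → F)} (hG : Good Q)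
include hG

theorem rho_apply (u : Omega F ⇑Q) (v : ι → F) : rho ⇑Q u v = (oe hG u : (ι → F) ≃ₗ[F] (ι → F)) v := rfl

theorem st (hp2 : p ≠ 2) (hF : (p : F) ≠ 0) (h8 : Fintype.card ι = 8) : St p Q (rho ⇑Q) where
  odd := hp2
  hF := hF
  nd := hG.nondeg
  dim := by rw [finrank_fintype_fun_eq_card, h8]
  inj a b e := (oe hG).injective (ext_E fun v => LinearMap.congr_fun e v)
  iso y := E_le_O (oe hG y).2
  sq c hc := by
    have h1 : Function.Injective c := (injective_iff_map_eq_zero c).2 fun v hv => hG.nondeg v fun w => by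
      rw [← hc.polar, hv, polar_zero_left]
    refine ⟨(oe hG).symm ⟨_, sq_mem_E hG (g := LinearEquiv.ofInjectiveEndo c h1) hc⟩, LinearMap.ext fun v => ?_⟩
    rw [rho_apply hG, MulEquiv.apply_symm_apply]
    rfl

theorem cpp [Finite F] (S : St p Q (rho ⇑Q)) : CentPP p (QuotientGroup.mk' (center (Omega F ⇑Q))) := by
  refine ⟨(QuotientGroup.ker_mk' _).le, fun h => ?_⟩
  rw [QuotientGroup.ker_mk'] at h
  obtain ⟨z, hz⟩ := exists_prime_orderOf_dvd_card' p h
  obtain ⟨a, ha⟩ := ClassicalGeometry.OrthAut1.center_scalar hG (z := oe hG z.1) (mem_center_iff.2 fun g => by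
    obtain ⟨g, rfl⟩ := (oe hG).surjective g
    rw [← map_mul, ← map_mul, mem_center_iff.1 z.2])
  have h1 : rho ⇑Q z.1 ^ p = 1 := rho_pow (by rw [← coe_pow, ← hz, pow_orderOf_eq_one, coe_one])
  obtain ⟨v, h2, h3⟩ := exists_ns S.nd (ep_idem S.hF h1) (sa_ep S.hF (S.iso _) h1) (ep_ne_zero S.hF h1 (S.ne fun e =>
    hp.out.ne_one (by rw [← hz, orderOf_eq_one_iff]; exact Subtype.ext e)))
  exact not_eig S.odd S.hF (S.iso _) h1 h2 h3 a (ha v)

theorem inv_of [Finite F] (S : St p Q (rho ⇑Q)) {Γ : Subgroup (MulAut (POmega F ⇑Q))} (h : ∀ α ∈ Γ, AutOrth.Main.Ind ⇑Q α) :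
    Inv p (rho ⇑Q) (QuotientGroup.mk' _) Γ := fun α hα y y' h1 h2 h3 => by
  obtain ⟨σ, μ, T, ⟨hμ, hs, hQ⟩, hT⟩ := h α hα
  obtain ⟨g, hg⟩ := (oe hG).surjective (conjE (⟨hμ, hs, hQ⟩ : IsSemi Q T σ μ) (oe hG y))
  have h4 := hT y g fun v => by rw [← oe_apply hG, ← oe_apply hG, hg, conjE_apply]
  have h5 : g ^ p = 1 := (oe hG).injective (by rw [map_pow, hg, ← map_pow, ← map_pow, h1, map_one, map_one])
  have h6 : Commute g y'⁻¹ := comm_of (cpp hG S) h5 (by
    rw [map_inv, ← h3]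
    exact (h4 ▸ Commute.refl _ : Commute _ (α (QuotientGroup.mk y))).inv_right)
  have h7 : g = y' := mul_inv_eq_one.1 ((cpp hG S).eq_one (n := 1) (by
    rw [map_mul, map_inv, ← h3]
    exact mul_inv_eq_one.2 h4.symm) (by rw [pow_one, h6.mul_pow, h5, inv_pow, h2, inv_one, one_mul]))
  have h8 : Nat.card (LinearMap.ker (rho ⇑Q y - 1)) = Nat.card (LinearMap.ker (rho ⇑Q y' - 1)) :=
    Nat.card_congr (T.toEquiv.subtypeEquiv fun v => by
      simp only [LinearMap.mem_ker, LinearMap.sub_apply, sub_eq_zero, End.one_apply, rho_apply hG, ← h7, hg]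
      exact (T.injective.eq_iff.symm.trans (by rw [← conjE_apply (⟨hμ, hs, hQ⟩ : IsSemi Q T σ μ)]; rfl)))
  rw [natCard_eq_pow_finrank (K := F) (V := LinearMap.ker (rho ⇑Q y - 1)),
    natCard_eq_pow_finrank (K := F) (V := LinearMap.ker (rho ⇑Q y' - 1))] at h8
  have h9 := Nat.pow_right_injective (Finite.one_lt_card (α := F)) h8
  have a1 := LinearMap.finrank_range_add_finrank_ker (rho ⇑Q y - 1)
  have a2 := LinearMap.finrank_range_add_finrank_ker (rho ⇑Q y' - 1)
  unfold rk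
  omega

omit hG

theorem all [Finite F] (hp2 : p ≠ 2) (hF : (p : F) ≠ 0) (R : (Fin 4 ⊕ Fin 4 → F) → F) (hR : ⇑(plusForm 4 F) = R) :
    St p (plusForm 4 F) (rho R) ∧ CentPP p (QuotientGroup.mk' (center (Omega F R))) ∧
      ∃ Γ : Subgroup (MulAut (POmega F R)), Γ.index = 3 ∧ Inv p (rho R) (QuotientGroup.mk' _) Γ := by
  subst hR
  have hG : Good (plusForm 4 F) := good_plus (by norm_num)
  have S := st hG hp2 hF (by simp)
  obtain ⟨Γ, hΓ, hind⟩ := ClassicalGeometry.TrialityFinal.exists_index_three hG fun α x hx hx0 =>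
    (ClassicalGeometry.OrthAut3.dichotomy hG (by simp) α hx hx0).imp_right And.right
  refine ⟨S, cpp hG S, Γ.comap (MulAut.congr (pe hG)).toMonoidHom, ?_, inv_of hG S fun α hα => ?_⟩
  · rw [index_comap_of_surjective _ (MulAut.congr (pe hG)).surjective, hind]
  · exact (ind_iff_pt hG (by simp) α).2 ((hΓ _).1 hα)

/-- the statement in the simple group -/
theorem survD [Fintype F] (hF : (p : F) ≠ 0) {A : Subgroup (MulAut (POmega F (quadFormPlus 4 F)))}
    {P : Subgroup (POmega F (quadFormPlus 4 F))} (h : Pure p _ A P) : p = 5 ∧ SurvD F A P := by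
  obtain ⟨S, C, Γ, h1, h2⟩ := all h.odd hF _ (coe_plusForm (F := F) 4)
  obtain ⟨a1, a2, u, u', a3, a4, a5, a6, a7, a8, a9⟩ := main (QuotientGroup.mk'_surjective _) C S h1 h2 h
  rw [rho_sub, rho_sub, ← map_mul, map_eq_zero_iff _ Matrix.toLinAlgEquiv'.injective] at a5 a6
  rw [rk_rho] at a7 a8
  exact ⟨a1, a2, u, u', a3, a4, a5, a6, a7, a8, a9⟩

end D4A

/-- **[D4A]** -/
theorem boxD4A (B : Blk) : BoxD4A := fun p _ _ _ _ hF G _ _ σ M b D H =>
  let ⟨h1, h2⟩ := D4A.survD hF (B.pure G p M b D _ σ H)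
  ⟨h1, σ, H, h2⟩

end Cfsg.Agent.TO
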