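import Cfsg.Agent.TO.D4A.Five
import Cfsg.Agent.TO.Cl

/-!
# S4817, `PΩ₈⁺(q)`: the surviving configuration in the abstract setting (helper37)
-/

set_option autoImplicit false
set_option linter.unusedSectionVars false

namespace Cfsg.Agent.TO.D4A

open Module QuadraticMap Cfsg.Agent.BHZ.Nil Cfsg.Agent.LieClassical.OrthCore Subgroup

variable {F V : Type} [Field F] [AddCommGroup V] [Module F V] [FiniteDimensional F V] {Q : QuadraticForm F V} {p : ℕ}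
  [hp : Fact p.Prime] {Y X : Type} [Group Y] [Group X] [Finite Y] {ρ : Y →* End F V} {π : Y →* X} {D : Subgroup Y}
  {A Γ : Subgroup (MulAut X)}

theorem pElt_of {x : X} (h : ∃ n, x ^ p ^ n = 1) : PElt p x :=
  let ⟨_, h⟩ := h
  let ⟨k, _, hk⟩ := (Nat.dvd_prime_pow hp.out).1 (orderOf_dvd_of_pow_eq_one h)
  ⟨k, hk⟩

theorem pElt_map {y : Y} (h : y ^ p = 1) : PElt p (π y) := pElt_of ⟨1, by rw [pow_one, ← map_pow, h, map_one]⟩

theorem pow_of_mem {G : Type} [Group G] {D : Subgroup G} (hD : IsPGroup p D) {x : G} (h : x ∈ D) : ∃ n, x ^ p ^ n = 1 :=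
  let ⟨n, hn⟩ := hD ⟨x, h⟩
  ⟨n, congrArg Subtype.val hn⟩

/-- the automorphisms in `Γ` preserve the rank -/
def Inv (p : ℕ) (ρ : Y →* End F V) (π : Y →* X) (Γ : Subgroup (MulAut X)) : Prop :=
  ∀ α ∈ Γ, ∀ y y' : Y, y ^ p = 1 → y' ^ p = 1 → α (π y) = π y' → rk (ρ y - 1) = rk (ρ y' - 1)

variable (hπ : Function.Surjective π) (C : CentPP p π)
include C

theorem eq_of (hD : IsPGroup p D) {a b : Y} (ha : a ∈ D) (hb : b ∈ D) (h : π a = π b) : a = b :=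
  let ⟨_, hn⟩ := pow_of_mem hD (mul_mem ha (inv_mem hb))
  mul_inv_eq_one.1 (C.eq_one (by rw [map_mul, map_inv, h, mul_inv_cancel]) hn)

theorem map_ne {y : Y} (h : y ^ p = 1) (h1 : y ≠ 1) : π y ≠ 1 := fun e => h1 (C.eq_one e (n := 1) (by rwa [pow_one]))

theorem comm_of {a b : Y} (h : a ^ p = 1) (h1 : Commute (π a) (π b)) : Commute a b :=
  C.comm_of_pelt (n := 1) (by rwa [pow_one]) h1.eq

theorem pw_of (hD : IsPGroup p D) (h : Pure p X A (D.map π)) (d : Y) (hd : d ∈ D) : d ^ p = 1 :=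
  eq_of C hD (pow_mem hd p) (one_mem D) (by
    rw [map_pow, map_one]
    exact h.expo _ (self_le_KK _ ⟨d, hd, rfl⟩) (pElt_of (pow_of_mem h.pg ⟨d, hd, rfl⟩)))

include hπ

theorem exists_D {P : Subgroup X} (hP : IsPGroup p P) : ∃ D : Subgroup Y, IsPGroup p D ∧ D.map π = P :=
  let ⟨D, h1, _, h2⟩ := exists_lift_pgroup hπ (IsPGroup.of_bot (G := Y)) hP (by simp)
  ⟨D, h1, h2⟩

theorem kk (hD : IsPGroup p D) {x : Y} (h : ∀ y, (∀ d ∈ D, Commute y d) → Commute y x) : π x ∈ KK p (D.map π) :=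
  map_mem_KK hπ C.cent hD (mem_KK_iff.2 fun y hy _ => (h y fun d hd => (mem_centralizer_iff.1 hy d hd).symm).eq)

/-- `Q` is abelian -/
theorem abel (S : St p Q ρ) (hD : IsPGroup p D) (h : Pure p X A (D.map π)) : D.map π ≤ Ce (D.map π) := by
  by_contra hn
  have : Finite X := Finite.of_surjective π hπ
  obtain ⟨⟨_, a, ha, rfl⟩, ⟨_, b, hb, rfl⟩, ⟨_, c, hc, rfl⟩, h1, h2, -, h3⟩ := exists_triple h.pg fun hc => hn fun x hx =>
    mem_centralizer_iff.2 fun y hy => congrArg Subtype.val (hc.is_comm.comm ⟨y, hy⟩ ⟨x, hx⟩)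
  have h4 : ∀ d ∈ D, Commute (π c) (π d) := fun d hd => (congrArg Subtype.val (mem_center_iff.1 h1 ⟨_, d, hd, rfl⟩)).symm
  have h5 : π a * π b = π c * π b * π a := congrArg Subtype.val h3
  have h6 : π c ≠ 1 := fun e => h2 (Subtype.ext e)
  have hw := pw_of C hD h
  obtain ⟨-, v, v1, v2, v3, v4⟩ := S.na (hw b hb) (hw c hc) (comm_of C (hw c hc) (h4 b hb)) (comm_of C (hw c hc) (h4 a ha))
    (eq_of C hD (mul_mem ha hb) (mul_mem (mul_mem hc hb) ha) (by simpa only [map_mul] using h5)) fun e => h6 (by rw [e, map_one])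
  obtain ⟨α, -, hα⟩ := h.conj _ (self_le_KK _ ⟨c, hc, rfl⟩) _ (kk hπ C hD fun y hy => v4 y (hy c hc) (hy b hb))
    (pElt_map (hw c hc)) (pElt_map v1) h6 (map_ne C v1 v2)
  obtain ⟨E, hE, hE'⟩ := exists_D hπ C (h.pg.map α.toMonoidHom)
  obtain ⟨a', ha', a1⟩ : α (π a) ∈ E.map π := hE' ▸ ⟨_, ⟨a, ha, rfl⟩, rfl⟩
  obtain ⟨b', hb', b1⟩ : α (π b) ∈ E.map π := hE' ▸ ⟨_, ⟨b, hb, rfl⟩, rfl⟩
  have hv : v ∈ E := C.mem_of_pelt hE (n := 1) (by rwa [pow_one]) (hE' ▸ ⟨_, ⟨c, hc, rfl⟩, hα⟩)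
  have h7 := (S.na (a := a') (eq_of C hE (pow_mem hb' p) (one_mem E) (by
      rw [map_pow, b1, ← map_pow, ← map_pow, hw b hb, map_one, map_one])) v1
    (comm_of C v1 (by rw [b1, ← hα]; exact (h4 b hb).map α)) (comm_of C v1 (by rw [a1, ← hα]; exact (h4 a ha).map α))
    (eq_of C hE (mul_mem ha' hb') (mul_mem (mul_mem hv hb') ha') (by
      rw [map_mul, map_mul, map_mul, a1, b1, ← hα, ← map_mul, h5, map_mul, map_mul])) v2).1
  have h8 : 3 ≤ p := by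
    have := hp.out.two_le
    have := S.odd
    omega
  nlinarith

theorem lc (S : St p Q ρ) (hD : IsPGroup p D) (h : Pure p X A (D.map π)) : Lc p D := by
  have hw := pw_of C hD h
  have hc : ∀ a ∈ D, ∀ b ∈ D, Commute a b := fun a ha b hb =>
    comm_of C (hw a ha) (mem_centralizer_iff.1 (abel hπ C S hD h ⟨b, hb, rfl⟩) _ ⟨a, ha, rfl⟩)
  refine ⟨hw, hc, fun x hx hy => C.mem_of_pelt hD (n := 1) (by rwa [pow_one]) ?_, fun u hu => ?_⟩
  · obtain ⟨k, hk⟩ := pElt_map (π := π) hx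
    have h1 : IsPGroup p (zpowers (π x)) := IsPGroup.of_card (by rw [Nat.card_zpowers, hk])
    have h2 : zpowers (π x) ≤ normalizer (D.map π : Set X) := zpowers_le.2 (centralizer_le_normalizer _ (by
      rintro _ ⟨d, hd, rfl⟩
      exact ((hy d (hc d hd)).map π).eq))
    rw [← h.syl _ (h1.to_sup_of_normal_right' h.pg h2) le_sup_right (sup_le (zpowers_le.2 (kk hπ C hD hy)) (self_le_KK _))]
    exact mem_sup_left (mem_zpowers _)
  · by_contra hn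
    push Not at hn
    refine h.nc ⟨⟨⟨_, u, hu, rfl⟩, ?_⟩⟩
    rintro ⟨_, v, hv, rfl⟩
    obtain ⟨k, rfl⟩ := hn v hv
    exact ⟨k, Subtype.ext (map_zpow π u k).symm⟩

theorem cen (hD : IsPGroup p D) (h : Pure p X A (D.map π)) (x : Y) (hx : x ∈ D) (x' : Y) (hx' : x' ∈ D) (h1 : x ≠ 1)
    (h2 : x' ≠ 1) (h3 : ∀ y, Commute y x → Commute y x') (y : Y) (hy : Commute y x') : Commute y x := by
  have : Finite X := Finite.of_surjective π hπ
  have hw := pw_of C hD h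
  obtain ⟨α, -, hα⟩ := h.conj _ (self_le_KK _ ⟨x, hx, rfl⟩) _ (self_le_KK _ ⟨x', hx', rfl⟩) (pElt_map (hw x hx))
    (pElt_map (hw x' hx')) (map_ne C (hw x hx) h1) (map_ne C (hw x' hx') h2)
  have h4 : Cu (π x) = Cu (π x') := by
    refine eq_of_le_of_card_ge (fun z hz => ?_) ?_
    · obtain ⟨z, rfl⟩ := hπ z
      exact mem_centralizer_singleton_iff.2 ((h3 z (comm_of C (hw x hx) (mem_centralizer_singleton_iff.1 hz).symm).symm).map π).eq
    · refine Nat.card_le_card_of_injective (fun z => ⟨α.symm z.1, mem_centralizer_singleton_iff.2 (α.injective ?_)⟩)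
        fun z z' e => Subtype.ext (α.symm.injective (congrArg Subtype.val e))
      rw [map_mul, map_mul, hα, MulEquiv.apply_symm_apply]
      exact mem_centralizer_singleton_iff.1 z.2
  have h5 : π y ∈ Cu (π x) := h4 ▸ mem_centralizer_singleton_iff.2 (hy.map π).eq
  exact (comm_of C (hw x hx) (mem_centralizer_singleton_iff.1 h5).symm).symm

/-- the stabiliser of `Q` does not preserve the rank -/
theorem not_le (S : St p Q ρ) (hI : Inv p ρ π Γ) {P : Subgroup X} (h : Pure p X A P) : ¬ A ⊓ LA P 0 ≤ Γ := fun hle => by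
  obtain ⟨D, hD, rfl⟩ := exists_D hπ C h.pg
  have L := lc hπ C S hD h
  refine not_const S L fun u hu v hv h1 h2 => ?_
  obtain ⟨α, a1, a2, a3⟩ := h.abel (abel hπ C S hD h) _ ⟨u, hu, rfl⟩ _ ⟨v, hv, rfl⟩ (map_ne C (L.pw u hu) h1)
    (map_ne C (L.pw v hv) h2)
  exact hI α (hle ⟨a1, a2, fun _ => rfl⟩) u v (L.pw u hu) (L.pw v hv) a3

/-- **the surviving configuration** -/
theorem main [Fintype F] (S : St p Q ρ) (hΓ : Γ.index = 3) (hI : Inv p ρ π Γ) {P : Subgroup X} (h : Pure p X A P) :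
    p = 5 ∧ (Fintype.card F % 5 = 2 ∨ Fintype.card F % 5 = 3) ∧ ∃ u₁ u₂ : Y, u₁ ^ 5 = 1 ∧ u₂ ^ 5 = 1 ∧
      (ρ u₁ - 1) * (ρ u₂ - 1) = 0 ∧ (ρ u₂ - 1) * (ρ u₁ - 1) = 0 ∧ rk (ρ u₁ - 1) = 4 ∧ rk (ρ u₂ - 1) = 4 ∧
      P = closure {π u₁, π u₂} ∧ ∃ α ∈ A, (∀ x, α x ∈ P ↔ x ∈ P) ∧ ∀ j : ℤ, ¬ 3 ∣ j →
        (α ^ j) (π u₁) ∉ zpowers (π u₁) ∧ (α ^ j) (π u₁) ∉ zpowers (π u₂) := by
  have : Finite X := Finite.of_surjective π hπ
  have h3 : Γ.relIndex (A ⊓ LA P 0) = 3 := by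
    refine (three_cases hΓ _).resolve_left fun ⟨β, hβ⟩ => ?_
    refine not_le (π := β.toMonoidHom.comp π) (Γ := Γ.comap (MulAut.conj β⁻¹).toMonoidHom) (β.surjective.comp hπ) ?_ S
      (fun α hα y y' a1 a2 a3 => hI _ hα y y' a1 a2 ?_) h fun α hα => by simpa [mem_comap] using hβ α hα
    · have e : (β.toMonoidHom.comp π).ker = π.ker := by
        ext x
        simp [MonoidHom.mem_ker]
      exact ⟨e ▸ C.cent, e ▸ C.cop⟩
    · have a4 : α (β (π y)) = β (π y') := a3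
      simp [a4]
  obtain ⟨D, hD, rfl⟩ := exists_D hπ C h.pg
  have L := lc hπ C S hD h
  obtain ⟨u, hu⟩ := exists_mn S L
  have hu1 := map_ne C (L.pw u hu.mem) hu.ne
  obtain ⟨s, s1, s2, s3, s4⟩ := orb_count h3 (π u)
  have o1 : MulAction.orbit ↥(A ⊓ LA (D.map π) 0) (π u) = (D.map π : Set X) \ {1} := by
    ext x
    constructor
    · rintro ⟨α, rfl⟩
      exact ⟨(α.2.2.1 _).2 ⟨u, hu.mem, rfl⟩, fun e => hu1 ((MulEquiv.map_eq_one_iff α.1).1 e)⟩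
    · rintro ⟨a1, a2⟩
      obtain ⟨α, b1, b2, b3⟩ := h.abel (abel hπ C S hD h) _ ⟨u, hu.mem, rfl⟩ x a1 hu1 a2
      exact ⟨⟨α, b1, b2, fun _ => rfl⟩, b3⟩
  have o2 : MulAction.orbit ↥(Γ.subgroupOf (A ⊓ LA (D.map π) 0)) (π u) ⊆ π '' {v | Mn ρ D v} := by
    rintro _ ⟨α, rfl⟩
    obtain ⟨⟨v, v1, v2⟩, v3⟩ : α.1 • π u ∈ (D.map π : Set X) \ {1} := o1 ▸ ⟨α.1, rfl⟩
    refine ⟨v, ⟨v1, fun e => v3 (by rw [← v2, e, map_one]; rfl), fun w w1 w2 => ?_⟩, v2⟩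
    rw [← hI _ α.2 u v (L.pw u hu.mem) (L.pw v v1) v2.symm]
    exact hu.le w w1 w2
  have c1 : Nat.card (D.map π) = Nat.card D := (Nat.card_eq_of_bijective (π.subgroupMap D)
    ⟨fun a b e => Subtype.ext (eq_of C hD a.2 b.2 (congrArg Subtype.val e)), π.subgroupMap_surjective D⟩).symm
  rw [o1, Set.ncard_sdiff_singleton_of_mem (one_mem (D.map π)), ← Nat.card_coe_set_eq (D.map π : Set X), SetLike.coe_sort_coe,
    c1] at s3
  have hp3 : 3 ≤ p := by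
    have := hp.out.two_le
    have := S.odd
    omega
  have c2 : Nat.card D = p ^ 2 := by
    obtain ⟨k, hk⟩ := IsPGroup.iff_card.1 hD
    have a1 := ((Set.ncard_le_ncard o2).trans (Set.ncard_image_le (Set.toFinite _))).trans (ncard_mn S L)
    have a2 : ¬ k ≤ 1 := fun e => by
      obtain ⟨v, v1, v2⟩ := L.nc u hu.mem
      refine v2 (eq_of_le_of_card_ge (zpowers_le.2 hu.mem) ?_ ▸ v1)
      rw [hk, Nat.card_zpowers, orderOf_eq_prime (L.pw u hu.mem) hu.ne]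
      exact (Nat.pow_le_pow_right hp.out.pos e).trans (pow_one p).le
    have a3 : ¬ 3 ≤ k := fun e => by
      have a4 := Nat.pow_le_pow_right hp.out.pos e
      rw [← hk] at a4
      have a5 := Nat.le_mul_of_pos_left (Nat.card D - 1) s1
      obtain ⟨m, rfl⟩ : ∃ m, p = m + 3 := ⟨p - 3, by omega⟩
      have a6 : (m + 3) ^ 3 = m ^ 3 + 9 * m ^ 2 + 27 * m + 27 := by ring
      omega
    rw [hk, show k = 2 by omega]
  rw [c2] at s3
  have z1 : ∀ v, Mn ρ D v → ∀ w, v ∈ zpowers w → π v ∈ Z1 (π w) := fun v hv w ⟨k, hk⟩ =>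
    ⟨⟨k, by rw [← hk]; exact (map_zpow π w k).symm⟩, map_ne C (L.pw v hv.mem) hv.ne⟩
  have z2 : ∀ w ∈ D, (Z1 (π w)).ncard ≤ p - 1 := fun w hw => ncard_Z1 hp.out.pos (by rw [← map_pow, L.pw w hw, map_one])
  have a5 := Nat.le_mul_of_pos_left (p ^ 2 - 1) s1
  obtain ⟨m, hm⟩ : ∃ m, p = m + 3 := ⟨p - 3, by omega⟩
  have a6 : p ^ 2 = m * m + 6 * m + 9 := by rw [hm]; ring
  obtain ⟨u', hu', hn⟩ : ∃ u', Mn ρ D u' ∧ u' ∉ zpowers u := by
    by_contra hn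
    push Not at hn
    have a1 := (Set.ncard_le_ncard (o2.trans (show _ ⊆ Z1 (π u) from by
      rintro _ ⟨v, hv, rfl⟩
      exact z1 v hv u (hn v hv)))).trans (z2 u hu.mem)
    omega
  obtain ⟨t1, t2⟩ := two S L c2 hu hu' hn
  have o3 : MulAction.orbit ↥(Γ.subgroupOf (A ⊓ LA (D.map π) 0)) (π u) ⊆ Z1 (π u) ∪ Z1 (π u') := o2.trans (by
    rintro _ ⟨v, hv, rfl⟩
    exact (t2 v hv).imp (z1 v hv u) (z1 v hv u'))
  have o4 := (Set.ncard_union_le _ _).trans (Nat.add_le_add (z2 u hu.mem) (z2 u' hu'.mem))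
  have o5 := Set.ncard_le_ncard o3
  have hp5 : p = 5 := by
    have a7 : m ≤ 2 := by nlinarith [show m * m + 6 * m + 8 ≤ 6 * m + 12 by omega]
    have a8 : p ≠ 4 := fun e => absurd (e ▸ hp.out) (by decide)
    have a9 : p ≠ 3 := fun e => by
      subst e
      omega
    omega
  subst hp5
  have hq : Fintype.card F % 5 = 2 ∨ Fintype.card F % 5 = 3 := by
    have a1 : ¬ (Fintype.card F % 5 = 1 ∨ Fintype.card F % 5 = 4) := fun e => five S L e (cen hπ C hD h) hu hu' hn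
    have a2 : Fintype.card F % 5 ≠ 0 := fun e => by
      obtain ⟨r, hr⟩ := CharP.exists F
      obtain ⟨n, b1, b2⟩ := FiniteField.card F r
      have b3 := (Nat.prime_dvd_prime_iff_eq hp.out b1).1 (hp.out.dvd_of_dvd_pow (b2 ▸ Nat.dvd_of_mod_eq_zero e))
      exact S.hF (b3 ▸ CharP.cast_eq_zero F r)
    omega
  have r1 := rho_pow (ρ := ρ) (L.pw u hu.mem)
  have r2 := rho_pow (ρ := ρ) (L.pw u' hu'.mem)
  obtain ⟨r3, r4⟩ := rk_add S L hu hu' hn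
  have r5 := rk_four hq S.dim r1 (two_le_rk S.odd S.hF S.nd (S.iso u) r1 (S.ne hu.ne)) r4
  obtain ⟨α, hα⟩ := exists_three h3
  refine ⟨rfl, hq, u, u', L.pw u hu.mem, L.pw u' hu'.mem, ?_, ?_, r5, r3 ▸ r5, ?_, α.1, α.2.1, α.2.2.1, fun j hj => ?_⟩
  · rw [← ep_mul_sub r2, ← mul_assoc, sub_mul, (fx_of S L hu hu' hn).2, one_mul, sub_self, zero_mul]
  · rw [← ep_mul_sub r1, ← mul_assoc, sub_mul, (fx_of S L hu hu' hn).1, one_mul, sub_self, zero_mul]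
  · rw [t1, MonoidHom.map_closure, Set.image_pair]
  · rw [← not_or]
    intro e
    have a1 : (α ^ j) • π u ∈ Z1 (π u) ∪ Z1 (π u') := by
      have a2 : (α.1 ^ j) (π u) ≠ 1 := fun e => hu1 ((MulEquiv.map_eq_one_iff _).1 e)
      exact e.imp (fun e => ⟨e, a2⟩) fun e => ⟨e, a2⟩
    rw [← Set.eq_of_subset_of_ncard_le o3 (by omega)] at a1
    obtain ⟨γ, hγ⟩ := a1
    have a3 : γ.1⁻¹ * α ^ j ∈ MulAction.stabilizer ↥(A ⊓ LA (D.map π) 0) (π u) := by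
      rw [MulAction.mem_stabilizer_iff, mul_smul, inv_smul_eq_iff]
      exact hγ.symm
    exact hα j hj ((mul_mem_cancel_left (inv_mem γ.2)).1 (s4 (by omega) a3))

end Cfsg.Agent.TO.D4A
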